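import Groth.Prelude.Def_EGA41
import Groth.Prelude.Def_CAlgX
import Mathlib.RingTheory.Ideal.Quotient.Nilpotent
import Mathlib.RingTheory.Ideal.Quotient.Operations

/-!
Basic facts on adic formal smoothness.
-/

universe u

namespace Groth.Agent.FSAdic12

open EGA41

variable {A B : Type u} [CommRing A] [CommRing B] [Algebra A B]

/-- A map lifting a continuous map through a nilpotent ideal is continuous. -/
theorem continuous_of_lift {C : Type u} [CommRing C] [Algebra A C] {J : Ideal C}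
    (hJ : IsNilpotent J) (𝔟 : Ideal B) (v : B →ₐ[A] C) (k : ℕ)
    (h : ∀ x ∈ 𝔟 ^ k, Ideal.Quotient.mk J (v x) = 0) :
    ∃ m : ℕ, ∀ x ∈ 𝔟 ^ m, v x = 0 := by
  obtain ⟨j, hj⟩ := hJ
  refine ⟨k * j, fun x hx => ?_⟩
  have hle : (𝔟 ^ k).map v.toRingHom ≤ J := by
    rw [Ideal.map_le_iff_le_comap]
    exact fun y hy => Ideal.mem_comap.mpr (Ideal.Quotient.eq_zero_iff_mem.mp (h y hy))
  have : (𝔟 ^ (k * j)).map v.toRingHom = ⊥ := by
    rw [pow_mul, Ideal.map_pow, eq_bot_iff]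
    exact (Ideal.pow_right_mono hle j).trans hj.le
  exact (Submodule.mem_bot C).mp (this ▸ Ideal.mem_map_of_mem v.toRingHom hx)

theorem lift_of_pow_eq_bot (𝔫 : Ideal B) (h : CAlgX.IsAdicFormallySmooth A B 𝔫) (n : ℕ) :
    ∀ (C : Type u) [CommRing C] [Algebra A C] (J : Ideal C), J ^ (n + 2) = ⊥ →
      ∀ u : B →ₐ[A] C ⧸ J, (∃ k : ℕ, ∀ x ∈ 𝔫 ^ k, u x = 0) →
        ∃ v : B →ₐ[A] C, (Ideal.Quotient.mkₐ A J).comp v = u := by
  induction n with
  | zero => intro C _ _ J hJ u hu; exact h C J hJ u hu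
  | succ n ih =>
    intro C _ _ J hJ u hu
    obtain ⟨k, hk⟩ := hu
    set I := J ^ (n + 2) with hI
    have hIJ : I ≤ J := Ideal.pow_le_self (by omega)
    have hI2 : I ^ 2 = ⊥ := by
      rw [hI, ← pow_mul, eq_bot_iff, ← hJ]
      exact Ideal.pow_le_pow_right (by omega)
    have hJI : J.map (Ideal.Quotient.mkₐ A I) ^ (n + 2) = ⊥ := by
      rw [← Ideal.map_pow, ← hI]
      exact Ideal.map_quotient_self I
    let e : ((C ⧸ I) ⧸ J.map (Ideal.Quotient.mkₐ A I)) ≃ₐ[A] C ⧸ J :=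
      DoubleQuot.quotQuotEquivQuotOfLEₐ A hIJ
    obtain ⟨v₁, hv₁⟩ := ih (C ⧸ I) _ hJI (e.symm.toAlgHom.comp u)
      ⟨k, fun x hx => by simp [hk x hx]⟩
    have hv₁' : ∀ x, e (Ideal.Quotient.mk _ (v₁ x)) = u x := fun x => by
      rw [← e.apply_symm_apply (u x)]
      exact congrArg e (AlgHom.congr_fun hv₁ x)
    have hc : ∃ m : ℕ, ∀ x ∈ 𝔫 ^ m, v₁ x = 0 := by
      refine continuous_of_lift ⟨n + 2, hJI⟩ 𝔫 v₁ k fun x hx => e.injective ?_
      rw [hv₁', hk x hx, map_zero]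
    obtain ⟨v, hv⟩ := h C I hI2 v₁ hc
    refine ⟨v, AlgHom.ext fun x => ?_⟩
    rw [← hv₁' x, ← AlgHom.congr_fun hv x]
    rfl

/-- Square-zero and nilpotent test ideals give the same notion over a discrete base. -/
theorem isAdicFormallySmooth_iff (𝔫 : Ideal B) :
    CAlgX.IsAdicFormallySmooth A B 𝔫 ↔ IsFormallySmoothAdic A ⊥ B 𝔫 := by
  constructor
  · intro h C _ _ J hJ _ u hu
    obtain ⟨n, hn⟩ := hJ
    refine lift_of_pow_eq_bot 𝔫 h n C J ?_ u hu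
    exact eq_bot_iff.mpr ((Ideal.pow_le_pow_right (by omega)).trans hn.le)
  · intro h C _ _ J hJ ψ hψ
    exact h C J ⟨2, hJ⟩ ⟨1, by simp⟩ ψ hψ

end Groth.Agent.FSAdic12
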