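import Mathlib.RingTheory.LocalRing.Module
import Mathlib.RingTheory.Spectrum.Prime.Topology
import Mathlib.LinearAlgebra.Matrix.NonsingularInverse
import Mathlib.LinearAlgebra.Basis.VectorSpace
import Mathlib.RingTheory.Flat.FaithfullyFlat.Algebra
import Mathlib.Algebra.Module.LocalizedModule.Basic
import Mathlib.Algebra.Module.Projective
import Mathlib.RingTheory.Support

/-!
Left invertibility of maps into projective modules, localised at a prime.
-/

universe u

namespace Groth.Agent.FSAdic12

open TensorProduct

variable {A : Type u} [CommRing A] {M N : Type u} [AddCommGroup M] [Module A M]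
  [AddCommGroup N] [Module A N]

theorem exists_smul_id_of_injective [Module.Finite A M] [Module.Projective A N] (u : M →ₗ[A] N)
    (p : Ideal A) [p.IsPrime] (h : Function.Injective (u.lTensor p.ResidueField)) :
    ∃ f : A, f ∉ p ∧ ∃ w : N →ₗ[A] M, w ∘ₗ u = f • LinearMap.id := by
  classical
  set K := p.ResidueField
  obtain ⟨k, s, hs⟩ := Module.Finite.exists_fin (R := A) (M := M)
  have hgen : Submodule.span K (Set.range fun i => (1 : K) ⊗ₜ[A] s i) = ⊤ := by
    have := congrArg (Submodule.baseChange K) hs
    rwa [Submodule.baseChange_span, Submodule.baseChange_top, ← Set.range_comp] at this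
  obtain ⟨κ, a, ha, hspan, hli⟩ := exists_linearIndependent' K (fun i => (1 : K) ⊗ₜ[A] s i)
  rw [hgen] at hspan
  have : Fintype κ := Fintype.ofInjective a ha
  let x : κ → M := s ∘ a
  have hxli : LinearIndependent K (fun j => (1 : K) ⊗ₜ[A] u (x j)) := by
    refine (hli.map' (u.baseChange K) ?_ : _)
    exact LinearMap.ker_eq_bot.mpr h
  -- enough functionals
  let ψ : (N →ₗ[A] A) → (κ → K) := fun φ j => algebraMap A K (φ (u (x j)))
  have hψ : Submodule.span K (Set.range ψ) = ⊤ := by
    by_contra hne
    obtain ⟨g, hg0, hg⟩ := Submodule.exists_le_ker_of_lt_top _ (lt_top_iff_ne_top.mpr hne)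
    let c : κ → K := fun j => g (Pi.single j 1)
    have hgc : ∀ v : κ → K, g v = ∑ j, c j * v j := by
      intro v
      conv_lhs => rw [pi_eq_sum_univ' v]
      rw [map_sum]
      exact Finset.sum_congr rfl fun j _ => by rw [map_smul, smul_eq_mul, mul_comm]
    obtain ⟨sec, hsec⟩ := Module.projective_def'.mp ‹Module.Projective A N›
    let e := TensorProduct.finsuppScalarRight A A K N
    have hz : ∀ φ : N →ₗ[A] A,
        φ.baseChange K (∑ j, c j • ((1 : K) ⊗ₜ[A] u (x j))) = 0 := by
      intro φ
      have := hg (Submodule.subset_span ⟨φ, rfl⟩)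
      rw [LinearMap.mem_ker, hgc] at this
      rw [map_sum]
      simp only [map_smul, LinearMap.baseChange_tmul]
      apply (TensorProduct.rid A K).injective
      rw [map_sum, map_zero]
      refine Eq.trans (Finset.sum_congr rfl fun j _ => ?_) this
      rw [TensorProduct.smul_tmul', TensorProduct.rid_tmul, smul_eq_mul, mul_one, Algebra.smul_def,
        mul_comm]
    have hz' : ∑ j, c j • ((1 : K) ⊗ₜ[A] u (x j)) = 0 := by
      have hinj : Function.Injective (sec.baseChange K) :=
        Function.LeftInverse.injective (g := (Finsupp.linearCombination A id).baseChange K) fun y => by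
          rw [← LinearMap.comp_apply, ← LinearMap.baseChange_comp, hsec, LinearMap.baseChange_id,
            LinearMap.id_apply]
      apply hinj
      rw [map_zero]
      apply (TensorProduct.finsuppScalarRight A A K N).injective
      rw [map_zero]
      ext n
      have := congrArg (TensorProduct.rid A K) (hz (Finsupp.lapply n ∘ₗ sec))
      rw [map_zero] at this
      rw [Finsupp.zero_apply, ← this]
      generalize (∑ j, c j • ((1 : K) ⊗ₜ[A] u (x j))) = z
      induction z using TensorProduct.induction_on with
      | zero => simp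
      | add z z' h1 h2 => simp [h1, h2]
      | tmul r m => simp [TensorProduct.finsuppScalarRight_apply_tmul_apply]
    refine hg0 (LinearMap.ext fun v => ?_)
    rw [hgc, LinearMap.zero_apply]
    refine Finset.sum_eq_zero fun j _ => ?_
    rw [Fintype.linearIndependent_iff.mp hxli c hz' j, zero_mul]
  obtain ⟨ι, b, hb, hbspan, hbli⟩ := exists_linearIndependent' K ψ
  rw [hψ] at hbspan
  let B := Module.Basis.mk hbli (by rw [hbspan])
  let e' := B.indexEquiv (Pi.basisFun K κ)
  let φ : κ → (N →ₗ[A] A) := fun i => b (e'.symm i)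
  let Φ : Matrix κ κ A := Matrix.of fun i j => φ i (u (x j))
  have hdet : Φ.det ∉ p := by
    intro hmem
    have hli' : LinearIndependent K (Φ.map (algebraMap A K)).row := by
      have := hbli.comp e'.symm e'.symm.injective
      exact this
    rw [Matrix.linearIndependent_rows_iff_isUnit, Matrix.isUnit_iff_isUnit_det, isUnit_iff_ne_zero,
      ← RingHom.mapMatrix_apply, ← RingHom.map_det] at hli'
    exact hli' (Ideal.algebraMap_residueField_eq_zero.mpr hmem)
  -- the chosen elements generate after inverting one element
  let Q := M ⧸ Submodule.span A (Set.range x)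
  have hQ : (⟨p, inferInstance⟩ : PrimeSpectrum A) ∉ Module.support A Q := by
    rw [Module.mem_support_iff_nontrivial_residueField_tensorProduct, not_nontrivial_iff_subsingleton]
    have hzero : ∀ z : K ⊗[A] M,
        (Submodule.mkQ (Submodule.span A (Set.range x))).baseChange K z = 0 := by
      intro z
      have hz : z ∈ Submodule.span K (Set.range ((fun i => (1 : K) ⊗ₜ[A] s i) ∘ a)) := by simp [hspan]
      induction hz using Submodule.span_induction with
      | mem z hz =>
        obtain ⟨j, rfl⟩ := hz
        have hx' : Submodule.Quotient.mk (p := Submodule.span A (Set.range x)) (x j) = 0 :=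
          (Submodule.Quotient.mk_eq_zero _).mpr (Submodule.subset_span (Set.mem_range_self j))
        rw [Function.comp_apply, LinearMap.baseChange_tmul, Submodule.mkQ_apply]
        exact (congrArg ((1 : K) ⊗ₜ[A] ·) hx').trans (tmul_zero _ _)
      | zero => simp
      | add y z _ _ hy hz => simp [hy, hz]
      | smul c y _ hy => rw [map_smul, hy, smul_zero]
    refine ⟨fun y₁ y₂ => ?_⟩
    obtain ⟨z₁, rfl⟩ := LinearMap.lTensor_surjective K (Submodule.mkQ_surjective _) y₁
    obtain ⟨z₂, rfl⟩ := LinearMap.lTensor_surjective K (Submodule.mkQ_surjective _) y₂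
    exact (hzero z₁).trans (hzero z₂).symm
  obtain ⟨f, hf, hfp⟩ : ∃ f ∈ Module.annihilator A Q, f ∉ p := by
    rw [Module.support_eq_zeroLocus, PrimeSpectrum.mem_zeroLocus] at hQ
    exact Set.not_subset.mp hQ
  let w : N →ₗ[A] M :=
    Fintype.linearCombination A x ∘ₗ Matrix.mulVecLin Φ.adjugate ∘ₗ LinearMap.pi φ
  have hw : ∀ j, w (u (x j)) = Φ.det • x j := by
    intro j
    have hv : Matrix.mulVec Φ.adjugate (fun i => φ i (u (x j))) = Pi.single j Φ.det := by
      funext i
      have := congrFun (congrFun (Matrix.adjugate_mul Φ) i) j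
      rw [Matrix.mul_apply, Matrix.smul_apply, Matrix.one_apply] at this
      refine Eq.trans ?_ (this.trans ?_)
      · rfl
      · by_cases hij : i = j
        · subst hij; simp
        · simp [hij]
    show Fintype.linearCombination A x (Matrix.mulVec Φ.adjugate fun i => φ i (u (x j))) = _
    rw [hv, Fintype.linearCombination_apply_single]
  refine ⟨Φ.det * f, fun hmem => ((‹p.IsPrime›).mem_or_mem hmem).elim hdet hfp, f • w, ?_⟩
  refine LinearMap.ext fun m => ?_
  have hm : f • m ∈ Submodule.span A (Set.range x) := by
    rw [← Submodule.Quotient.mk_eq_zero, Submodule.Quotient.mk_smul]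
    exact Module.mem_annihilator.mp hf _
  show f • w (u m) = (Φ.det * f) • m
  rw [← map_smul, ← map_smul, mul_smul]
  generalize f • m = m' at hm
  induction hm using Submodule.span_induction with
  | mem y hy => obtain ⟨j, rfl⟩ := hy; exact hw j
  | zero => simp
  | add y z _ _ hy hz => rw [map_add, map_add, hy, hz, smul_add]
  | smul c y _ hy => rw [map_smul, map_smul, hy, smul_comm]

theorem injective_of_localized (u : M →ₗ[A] N) (p : Ideal A) [p.IsPrime] (S : Submonoid A)
    (hS : S ≤ p.primeCompl)
    (h : ∃ w : LocalizedModule S N →ₗ[A] LocalizedModule S M,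
      w ∘ₗ LocalizedModule.map S u = LinearMap.id) :
    Function.Injective (u.lTensor p.ResidueField) := by
  obtain ⟨w, hw⟩ := h
  set K := p.ResidueField
  let g : LocalizedModule S M →ₗ[A] K ⊗[A] M :=
    LocalizedModule.lift S (TensorProduct.mk A K M 1) fun s => by
      rw [Module.End.isUnit_iff]
      have hne : algebraMap A K (s : A) ≠ 0 :=
        fun h0 => hS s.2 (Ideal.algebraMap_residueField_eq_zero.mp h0)
      constructor
      · intro y z hyz
        simp only [Module.algebraMap_end_apply] at hyz
        rw [← algebraMap_smul K (s : A) y, ← algebraMap_smul K (s : A) z] at hyz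
        exact smul_right_injective _ hne hyz
      · intro y
        refine ⟨(algebraMap A K (s : A))⁻¹ • y, ?_⟩
        rw [Module.algebraMap_end_apply, ← algebraMap_smul K (s : A), smul_inv_smul₀ hne]
  let G : K ⊗[A] LocalizedModule S M →ₗ[A] K ⊗[A] M :=
    (LinearMap.liftBaseChange K g).restrictScalars A
  have hG : ∀ z, G ((LocalizedModule.mkLinearMap S M).lTensor K z) = z := by
    intro z
    induction z using TensorProduct.induction_on with
    | zero => simp
    | add y z hy hz => simp [hy, hz]
    | tmul r m =>
      have hgm : g (LocalizedModule.mkLinearMap S M m) = (1 : K) ⊗ₜ[A] m := by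
        simp [g]
      simp only [G, LinearMap.lTensor_tmul, LinearMap.restrictScalars_apply,
        LinearMap.liftBaseChange_tmul, hgm, TensorProduct.smul_tmul', smul_eq_mul, mul_one]
  refine Function.Injective.of_comp (f := fun y => G (w.lTensor K ((LocalizedModule.mkLinearMap S N).lTensor K y))) ?_
  refine Function.LeftInverse.injective (g := id) fun z => ?_
  show G _ = z
  conv_rhs => rw [← hG z]
  congr 1
  have hc : LocalizedModule.mkLinearMap S N ∘ₗ u =
      (LocalizedModule.map S u).restrictScalars A ∘ₗ LocalizedModule.mkLinearMap S M := by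
    ext m; simp
  have hw' : w ∘ₗ (LocalizedModule.map S u).restrictScalars A = LinearMap.id := by
    exact LinearMap.ext fun y => LinearMap.congr_fun hw y
  rw [← LinearMap.comp_apply, ← LinearMap.comp_apply, ← LinearMap.lTensor_comp,
    ← LinearMap.lTensor_comp, LinearMap.comp_assoc, hc, ← LinearMap.comp_assoc, hw', LinearMap.id_comp]

theorem localized_of_smul_id (u : M →ₗ[A] N) (S : Submonoid A) {f : A} (hf : f ∈ S)
    (w : N →ₗ[A] M) (hw : w ∘ₗ u = f • LinearMap.id) :
    ∃ w' : LocalizedModule S N →ₗ[A] LocalizedModule S M,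
      w' ∘ₗ LocalizedModule.map S u = LinearMap.id := by
  refine ⟨((LocalizedModule.map S w).restrictScalars A).comp
    (LocalizedModule.divBy (M := N) (⟨f, hf⟩ : S)), ?_⟩
  refine LinearMap.ext fun y => ?_
  induction y using LocalizedModule.induction_on with
  | h m s =>
    show LocalizedModule.map S w (LocalizedModule.divBy (⟨f, hf⟩ : S) (LocalizedModule.map S u (LocalizedModule.mk m s))) = _
    rw [LocalizedModule.map_mk, LocalizedModule.divBy_apply, LocalizedModule.liftOn_mk,
      LocalizedModule.map_mk, LinearMap.id_apply, LocalizedModule.mk_eq]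
    refine ⟨1, ?_⟩
    have : w (u m) = f • m := LinearMap.congr_fun hw m
    simp only [one_smul, this, Submonoid.smul_def, Submonoid.coe_mul, smul_smul]

theorem exists_left_inverse_of_forall_maximal (u : M →ₗ[A] N)
    (h : ∀ m : Ideal A, m.IsMaximal → ∃ f : A, f ∉ m ∧ ∃ w : N →ₗ[A] M, w ∘ₗ u = f • LinearMap.id) :
    ∃ w : N →ₗ[A] M, w ∘ₗ u = LinearMap.id := by
  let I : Ideal A :=
    { carrier := {f | ∃ w : N →ₗ[A] M, w ∘ₗ u = f • LinearMap.id}
      add_mem' := fun ⟨w, hw⟩ ⟨w', hw'⟩ => ⟨w + w', by rw [LinearMap.add_comp, hw, hw', add_smul]⟩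
      zero_mem' := ⟨0, by simp⟩
      smul_mem' := fun c f ⟨w, hw⟩ => ⟨c • w, by rw [LinearMap.smul_comp, hw, smul_smul, smul_eq_mul]⟩ }
  have : I = ⊤ := by
    by_contra hI
    obtain ⟨m, hm, hIm⟩ := Ideal.exists_le_maximal I hI
    obtain ⟨f, hf, hw⟩ := h m hm
    exact hf (hIm hw)
  obtain ⟨w, hw⟩ := (I.eq_top_iff_one.mp this : (1 : A) ∈ I)
  exact ⟨w, by rwa [one_smul] at hw⟩

end Groth.Agent.FSAdic12
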