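import Groth.Agent.FSAdic12.Basic
import Mathlib.RingTheory.AdicCompletion.RingHom

/-!
Lifting continuous maps to complete algebras.
-/

universe u

namespace Groth.Agent.FSAdic12

open EGA41

variable {A B C : Type u} [CommRing A] [CommRing B] [CommRing C] [Algebra A B] [Algebra A C]

/-- Combine compatible maps to `C ⧸ I` and `C ⧸ I'` to a map to `C ⧸ I ⊓ I'`. -/
theorem exists_algHom_inf (I I' : Ideal C) (f : B →ₐ[A] C ⧸ I) (g : B →ₐ[A] C ⧸ I')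
    (h : ∀ b c c', Ideal.Quotient.mk I c = f b → Ideal.Quotient.mk I' c' = g b → c - c' ∈ I ⊔ I') :
    ∃ k : B →ₐ[A] C ⧸ I ⊓ I',
      ∀ b c, Ideal.Quotient.mk (I ⊓ I') c = k b →
        Ideal.Quotient.mk I c = f b ∧ Ideal.Quotient.mk I' c = g b := by
  let φ : (C ⧸ I ⊓ I') →ₐ[A] (C ⧸ I) × (C ⧸ I') :=
    Ideal.Quotient.liftₐ (I ⊓ I') ((Ideal.Quotient.mkₐ A I).prod (Ideal.Quotient.mkₐ A I'))
      fun x hx => Prod.ext (Ideal.Quotient.eq_zero_iff_mem.mpr hx.1)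
        (Ideal.Quotient.eq_zero_iff_mem.mpr hx.2)
  have hinj : Function.Injective φ := by
    rw [injective_iff_map_eq_zero]
    intro x hx
    obtain ⟨x, rfl⟩ := Ideal.Quotient.mk_surjective x
    obtain ⟨h1, h2⟩ := Prod.ext_iff.mp hx
    exact Ideal.Quotient.eq_zero_iff_mem.mpr
      ⟨Ideal.Quotient.eq_zero_iff_mem.mp h1, Ideal.Quotient.eq_zero_iff_mem.mp h2⟩
  have hr : ∀ b, (f.prod g) b ∈ φ.range := by
    intro b
    obtain ⟨c, hc⟩ := Ideal.Quotient.mk_surjective (f b)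
    obtain ⟨c', hc'⟩ := Ideal.Quotient.mk_surjective (g b)
    obtain ⟨a, ha, a', ha', hsum⟩ := Submodule.mem_sup.mp (h b c c' hc hc')
    refine ⟨Ideal.Quotient.mk _ (c - a), Prod.ext ?_ ?_⟩
    · show Ideal.Quotient.mk I (c - a) = f b
      rw [map_sub, hc, Ideal.Quotient.eq_zero_iff_mem.mpr ha, sub_zero]
    · show Ideal.Quotient.mk I' (c - a) = g b
      rw [← hc', Ideal.Quotient.eq]
      convert ha' using 1
      linear_combination -hsum
  refine ⟨(AlgEquiv.ofInjective φ hinj).symm.toAlgHom.comp ((f.prod g).codRestrict φ.range hr),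
    fun b c hc => ?_⟩
  have h1 : φ (Ideal.Quotient.mk (I ⊓ I') c) = (f b, g b) :=
    (congrArg φ hc).trans (congrArg Subtype.val ((AlgEquiv.ofInjective φ hinj).apply_symm_apply _))
  exact Prod.ext_iff.mp h1

theorem lift_to_complete (𝔞 : Ideal A) (𝔟 : Ideal B) (𝔠 : Ideal C)
    (hB : IsFormallySmoothAdic A 𝔞 B 𝔟)
    [IsAdicComplete 𝔠 C] (hAC : ∃ k : ℕ, (𝔞 ^ k).map (algebraMap A C) ≤ 𝔠)
    (J : Ideal C) (hJ : ∃ t : ℕ, J ^ t ≤ 𝔠) [IsHausdorff (𝔠.map (Ideal.Quotient.mk J)) (C ⧸ J)]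
    (u : B →ₐ[A] C ⧸ J) (hu : ∃ k : ℕ, (𝔟 ^ k).map u.toRingHom ≤ 𝔠.map (Ideal.Quotient.mk J)) :
    ∃ v : B →ₐ[A] C, (∃ k : ℕ, (𝔟 ^ k).map v.toRingHom ≤ 𝔠) ∧
      (Ideal.Quotient.mkₐ A J).comp v = u := by
  obtain ⟨ka, hka⟩ := hAC
  obtain ⟨t, ht⟩ := hJ
  obtain ⟨kb, hkb⟩ := hu
  let Good : (n : ℕ) → (B →ₐ[A] C ⧸ 𝔠 ^ n) → Prop := fun n v =>
    (∀ b c, Ideal.Quotient.mk (𝔠 ^ n) c = v b → ∀ c', Ideal.Quotient.mk J c' = u b →
      c - c' ∈ J ⊔ 𝔠 ^ n) ∧ ∃ m, ∀ x ∈ 𝔟 ^ m, v x = 0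
  have step : ∀ (n : ℕ) (v : B →ₐ[A] C ⧸ 𝔠 ^ n), Good n v →
      ∃ v' : B →ₐ[A] C ⧸ 𝔠 ^ (n + 1), Good (n + 1) v' ∧
        (Ideal.Quotient.factorₐ A (Ideal.pow_le_pow_right n.le_succ)).comp v' = v := by
    rintro n v ⟨hv, m, hm⟩
    set I' := J ⊔ 𝔠 ^ (n + 1)
    let u' : B →ₐ[A] C ⧸ I' := (Ideal.Quotient.factorₐ A (le_sup_left : J ≤ I')).comp u
    obtain ⟨w, hw⟩ := exists_algHom_inf (𝔠 ^ n) I' v u' (fun b c c' hc hc' => by
      obtain ⟨d, hd⟩ := Ideal.Quotient.mk_surjective (u b)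
      have h1 : c' - d ∈ I' := Ideal.Quotient.eq.mp (hc'.trans (congrArg _ hd.symm))
      have h2 : c - d ∈ J ⊔ 𝔠 ^ n := hv b c hc d hd
      have e1 : I' ≤ 𝔠 ^ n ⊔ I' := le_sup_right
      have e2 : J ⊔ 𝔠 ^ n ≤ 𝔠 ^ n ⊔ I' := sup_le (le_sup_left.trans e1) le_sup_left
      have := Ideal.sub_mem _ (e2 h2) (e1 h1)
      rwa [sub_sub_sub_cancel_right] at this)
    let I := 𝔠 ^ n ⊓ I'
    have hle : 𝔠 ^ (n + 1) ≤ I := le_inf (Ideal.pow_le_pow_right n.le_succ) le_sup_right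
    let K := I.map (Ideal.Quotient.mkₐ A (𝔠 ^ (n + 1)))
    have hK : IsNilpotent K := by
      refine ⟨t * (n + 1), eq_bot_iff.mpr ?_⟩
      have h1 : K ≤ J.map (Ideal.Quotient.mkₐ A (𝔠 ^ (n + 1))) := by
        refine (Ideal.map_mono inf_le_right).trans ?_
        rw [Ideal.map_sup]
        exact sup_le le_rfl ((Ideal.map_quotient_self _).le.trans bot_le)
      refine (Ideal.pow_right_mono h1 _).trans ?_
      rw [← Ideal.map_pow]
      refine (Ideal.map_mono ?_).trans (Ideal.map_quotient_self _).le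
      rw [pow_mul]
      exact Ideal.pow_right_mono ht _
    let e : ((C ⧸ 𝔠 ^ (n + 1)) ⧸ K) ≃ₐ[A] C ⧸ I := DoubleQuot.quotQuotEquivQuotOfLEₐ A hle
    have hcw : ∀ x ∈ 𝔟 ^ (m + kb * (n + 1)), w x = 0 := by
      intro x hx
      obtain ⟨c, hc⟩ := Ideal.Quotient.mk_surjective (w x)
      obtain ⟨h1, h2⟩ := hw x c hc
      rw [← hc, Ideal.Quotient.eq_zero_iff_mem]
      refine ⟨Ideal.Quotient.eq_zero_iff_mem.mp ?_, Ideal.Quotient.eq_zero_iff_mem.mp ?_⟩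
      · rw [h1]
        exact hm x (Ideal.pow_le_pow_right (Nat.le_add_right _ _) hx)
      · rw [h2]
        have h3 : u x ∈ (𝔠 ^ (n + 1)).map (Ideal.Quotient.mk J) := by
          rw [Ideal.map_pow]
          refine Ideal.pow_right_mono hkb (n + 1) ?_
          rw [← Ideal.map_pow, ← pow_mul]
          exact Ideal.mem_map_of_mem _ (Ideal.pow_le_pow_right (Nat.le_add_left _ _) hx)
        obtain ⟨d, hd, hdx⟩ :=
          (Ideal.mem_map_iff_of_surjective _ Ideal.Quotient.mk_surjective).mp h3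
        show Ideal.Quotient.factor (le_sup_left : J ≤ J ⊔ 𝔠 ^ (n + 1)) (u x) = 0
        rw [← hdx, Ideal.Quotient.factor_mk, Ideal.Quotient.eq_zero_iff_mem]
        exact Submodule.mem_sup_right hd
    obtain ⟨v', hv'⟩ := hB (C ⧸ 𝔠 ^ (n + 1)) K hK ⟨ka * (n + 1), by
      rw [eq_bot_iff, IsScalarTower.algebraMap_eq A C, ← Ideal.map_map]
      refine (Ideal.map_mono ?_).trans (Ideal.map_quotient_self _).le
      rw [pow_mul, Ideal.map_pow]
      exact Ideal.pow_right_mono hka _⟩ (e.symm.toAlgHom.comp w)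
      ⟨m + kb * (n + 1), fun x hx => by simp [hcw x hx]⟩
    have hv'e : ∀ b c, Ideal.Quotient.mk (𝔠 ^ (n + 1)) c = v' b → Ideal.Quotient.mk I c = w b := by
      intro b c hc
      have : e (Ideal.Quotient.mk K (v' b)) = w b := by
        rw [← e.apply_symm_apply (w b)]
        exact congrArg e (AlgHom.congr_fun hv' b)
      rw [← this, ← hc]
      rfl
    refine ⟨v', ⟨fun b c hc c' hc' => ?_, continuous_of_lift hK 𝔟 v' (m + kb * (n + 1))
      (fun x hx => (AlgHom.congr_fun hv' x).trans (by simp [hcw x hx]))⟩, AlgHom.ext fun b => ?_⟩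
    · obtain ⟨-, h2⟩ := hw b c (hv'e b c hc)
      exact Ideal.Quotient.eq.mp (h2.trans (congrArg _ hc'.symm))
    · obtain ⟨c, hc⟩ := Ideal.Quotient.mk_surjective (v' b)
      show Ideal.Quotient.factor (Ideal.pow_le_pow_right n.le_succ : 𝔠 ^ (n + 1) ≤ 𝔠 ^ n) (v' b) = v b
      rw [← hc, Ideal.Quotient.factor_mk]
      exact (hw b c (hv'e b c hc)).1
  choose next hnext hcomp using step
  have htop : (𝔠 ^ 0 : Ideal C) = ⊤ := (pow_zero 𝔠).trans Ideal.one_eq_top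
  have : Subsingleton (C ⧸ 𝔠 ^ 0) := Ideal.Quotient.subsingleton_iff.mpr htop
  let v0 : B →ₐ[A] C ⧸ 𝔠 ^ 0 :=
    { toFun := 0, map_one' := Subsingleton.elim _ _, map_mul' := fun _ _ => Subsingleton.elim _ _
      map_zero' := rfl, map_add' := fun _ _ => Subsingleton.elim _ _
      commutes' := fun _ => Subsingleton.elim _ _ }
  have hv0 : Good 0 v0 :=
    ⟨fun b c _ c' _ => Submodule.mem_sup_right (by rw [htop]; trivial), 0,
      fun x _ => Subsingleton.elim _ _⟩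
  let s : (n : ℕ) → {v : B →ₐ[A] C ⧸ 𝔠 ^ n // Good n v} := fun n =>
    Nat.rec (motive := fun n => {v : B →ₐ[A] C ⧸ 𝔠 ^ n // Good n v}) ⟨v0, hv0⟩
      (fun n ih => ⟨next n ih.1 ih.2, hnext n ih.1 ih.2⟩) n
  have hcompat : ∀ {m n : ℕ} (h : m ≤ n),
      (Ideal.Quotient.factorₐ A (Ideal.pow_le_pow_right h)).comp (s n).1 = (s m).1 := by
    intro m n h
    induction n, h using Nat.le_induction with
    | base =>
      ext b
      obtain ⟨c, hc⟩ := Ideal.Quotient.mk_surjective ((s m).1 b)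
      show Ideal.Quotient.factor (le_refl (𝔠 ^ m)) ((s m).1 b) = (s m).1 b
      rw [← hc, Ideal.Quotient.factor_mk]
    | succ n hmn ih =>
      ext b
      obtain ⟨c, hc⟩ := Ideal.Quotient.mk_surjective ((s (n + 1)).1 b)
      have h1 := AlgHom.congr_fun (hcomp n (s n).1 (s n).2) b
      have h2 := AlgHom.congr_fun ih b
      change Ideal.Quotient.factor (Ideal.pow_le_pow_right n.le_succ : 𝔠 ^ (n + 1) ≤ 𝔠 ^ n) ((s (n + 1)).1 b) = _ at h1
      change Ideal.Quotient.factor (Ideal.pow_le_pow_right hmn : 𝔠 ^ n ≤ 𝔠 ^ m) ((s n).1 b) = _ at h2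
      show Ideal.Quotient.factor (Ideal.pow_le_pow_right (Nat.le_succ_of_le hmn) : 𝔠 ^ (n + 1) ≤ 𝔠 ^ m) ((s (n + 1)).1 b) = _
      rw [← h2, ← h1, ← hc, Ideal.Quotient.factor_mk, Ideal.Quotient.factor_mk,
        Ideal.Quotient.factor_mk]
  let v : B →ₐ[A] C := IsAdicComplete.liftAlgHom 𝔠 (fun n => (s n).1) hcompat
  have hv : ∀ n b, Ideal.Quotient.mk (𝔠 ^ n) (v b) = (s n).1 b := fun n b => by simp [v]
  refine ⟨v, ?_, AlgHom.ext fun b => ?_⟩
  · obtain ⟨m, hm⟩ := (s 1).2.2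
    refine ⟨m, ?_⟩
    rw [Ideal.map_le_iff_le_comap]
    intro x hx
    rw [Ideal.mem_comap, ← pow_one 𝔠]
    exact Ideal.Quotient.eq_zero_iff_mem.mp ((hv 1 x).trans (hm x hx))
  · obtain ⟨c', hc'⟩ := Ideal.Quotient.mk_surjective (u b)
    refine (IsHausdorff.eq_iff_smodEq (I := 𝔠.map (Ideal.Quotient.mk J))).mpr fun n => ?_
    rw [SModEq.sub_mem]
    show Ideal.Quotient.mk J (v b) - u b ∈ _
    rw [← hc', ← map_sub, smul_eq_mul, Ideal.mul_top, ← Ideal.map_pow]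
    obtain ⟨a, ha, d, hd, had⟩ := Submodule.mem_sup.mp ((s n).2.1 b (v b) (hv n b) c' hc')
    rw [← had, map_add, Ideal.Quotient.eq_zero_iff_mem.mpr ha, zero_add]
    exact Ideal.mem_map_of_mem _ hd

end Groth.Agent.FSAdic12
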