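import Groth.Agent.FSAdic12.Basic
import Mathlib.Algebra.MvPolynomial.Derivation
import Mathlib.Algebra.Module.Torsion.Basic
import Mathlib.RingTheory.HopkinsLevitzki
import Mathlib.RingTheory.Ideal.Quotient.Operations
import Mathlib.RingTheory.LocalRing.ResidueField.Basic
import Mathlib.RingTheory.LocalRing.RingHom.Basic
import Mathlib.RingTheory.Ideal.Quotient.Basic

/-!
Formal smoothness of local rings can be tested on Artinian local rings with the same residue field.
-/

set_option autoImplicit false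

universe u

open IsLocalRing MvPolynomial

namespace Groth.Agent.FSAdic12

/-- Lifting to Artinian local test rings with unchanged residue field. -/
def LiftsArtinian (A B : Type u) [CommRing A] [IsLocalRing A] [CommRing B] [IsLocalRing B]
    [Algebra A B] : Prop :=
  ∀ (C : Type u) [CommRing C] [IsLocalRing C] [IsArtinianRing C] [Algebra A C] [IsLocalHom (algebraMap A C)]
    (J : Ideal C), IsNilpotent J → ∀ [IsLocalRing (C ⧸ J)] (u : B →ₐ[A] C ⧸ J) [IsLocalHom u.toRingHom],
    Function.Bijective (ResidueField.map u.toRingHom) →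
    ∃ f : B →ₐ[A] C, IsLocalHom f.toRingHom ∧ (Ideal.Quotient.mkₐ A J).comp f = u

theorem exists_solution {κ V N : Type u} [Field κ] [AddCommGroup V] [Module κ V] [AddCommGroup N] [Module κ N]
    (W : Submodule κ (V × N)) (key : ∀ j : N, ((0 : V), j) ∈ W → j = 0) :
    ∃ ψ : V →ₗ[κ] N, ∀ w ∈ W, ψ w.1 = w.2 := by
  let f : W →ₗ[κ] V := LinearMap.fst κ V N ∘ₗ W.subtype
  have hinj : LinearMap.ker f = ⊥ := by
    rw [LinearMap.ker_eq_bot']
    rintro ⟨⟨a, j⟩, hw⟩ (ha : a = 0)
    subst ha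
    exact Subtype.ext (Prod.ext rfl (key j hw))
  obtain ⟨r, hr⟩ := f.exists_leftInverse_of_injective hinj
  refine ⟨LinearMap.snd κ V N ∘ₗ W.subtype ∘ₗ r, fun w hw => ?_⟩
  have h1 : r w.1 = ⟨w, hw⟩ := LinearMap.congr_fun hr ⟨w, hw⟩
  simp [h1]

section Step

variable {A B C : Type u} [CommRing A] [IsLocalRing A] [CommRing B] [IsLocalRing B] [IsNoetherianRing B]
  [Algebra A B] [IsLocalHom (algebraMap A B)] [CommRing C] [Algebra A C]

/-- The lifting step for an ideal killed by a nilpotent ideal covering the image of the maximal ideal. -/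
theorem exists_lift_step (H : LiftsArtinian A B) (𝔐 : Ideal C) (h𝔐 : IsNilpotent 𝔐) (J : Ideal C)
    (hJ : J ≤ 𝔐) (hJ𝔐 : J * 𝔐 = ⊥) (u : B →ₐ[A] C ⧸ J)
    (hu : (maximalIdeal B).map u.toRingHom ≤ 𝔐.map (Ideal.Quotient.mk J)) :
    ∃ v : B →ₐ[A] C, (Ideal.Quotient.mkₐ A J).comp v = u := by
  classical
  rcases subsingleton_or_nontrivial C with hC | hC
  · let v : B →ₐ[A] C :=
      { toFun := 0, map_one' := Subsingleton.elim _ _, map_mul' := fun _ _ => Subsingleton.elim _ _
        map_zero' := rfl, map_add' := fun _ _ => Subsingleton.elim _ _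
        commutes' := fun _ => Subsingleton.elim _ _ }
    have : Subsingleton (C ⧸ J) := Ideal.Quotient.mk_surjective.subsingleton
    exact ⟨v, AlgHom.ext fun _ => Subsingleton.elim _ _⟩
  have hJtop : J ≠ ⊤ := by
    intro e
    obtain ⟨n, hn⟩ := h𝔐
    have h1 : 𝔐 = ⊤ := top_le_iff.mp (e ▸ hJ)
    rw [h1, Ideal.top_pow] at hn
    exact top_ne_bot hn
  have : Nontrivial (C ⧸ J) := Ideal.Quotient.nontrivial_iff.mpr hJtop
  let T := MvPolynomial B A
  let π : T →ₐ[A] B := aeval id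
  have hπ : Function.Surjective π := fun b => ⟨X b, MvPolynomial.aeval_X _ b⟩
  choose c hc using fun b => Ideal.Quotient.mk_surjective (u b)
  let t : T →ₐ[A] C := aeval c
  have htπ : ∀ p, Ideal.Quotient.mk J (t p) = u (π p) := by
    intro p
    have : (Ideal.Quotient.mkₐ A J).comp t = u.comp π :=
      MvPolynomial.algHom_ext fun b => by simp [t, π, hc]
    exact AlgHom.congr_fun this p
  let M : Ideal T := (maximalIdeal B).comap π.toRingHom
  have hMmax : M.IsMaximal := Ideal.comap_isMaximal_of_surjective π.toRingHom hπ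
  let : Field (T ⧸ M) := Ideal.Quotient.field M
  have ht𝔐 : ∀ p ∈ M, t p ∈ 𝔐 := by
    intro p hp
    have h1 : Ideal.Quotient.mk J (t p) ∈ 𝔐.map (Ideal.Quotient.mk J) := by
      rw [htπ]
      exact hu (Ideal.mem_map_of_mem _ hp)
    rw [Ideal.mem_map_iff_of_surjective _ Ideal.Quotient.mk_surjective] at h1
    obtain ⟨x, hx, hxp⟩ := h1
    have := sub_mem hx (hJ (Ideal.Quotient.eq.mp hxp))
    rwa [sub_sub_cancel] at this
  -- `J` as a vector space over the residue field
  let : Module T J := Module.compHom J t.toRingHom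
  have hsmul : ∀ (p : T) (j : J), ((p • j : J) : C) = t p * (j : C) := fun p j => rfl
  have htor : Module.IsTorsionBySet T J M := by
    intro j ⟨p, hp⟩
    apply Subtype.ext
    show t p * (j : C) = 0
    rw [mul_comm]
    exact (Submodule.mem_bot C).mp (hJ𝔐 ▸ Ideal.mul_mem_mul j.2 (ht𝔐 p hp))
  let : Module (T ⧸ M) J := htor.module
  have hsmulq : ∀ (p : T) (j : J), (Ideal.Quotient.mk M p • j : J) = p • j := fun p j => rfl
  let D0 : Derivation A T (B →₀ (T ⧸ M)) := MvPolynomial.mkDerivation A fun b => Finsupp.single b (1 : T ⧸ M)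
  let W : Submodule (T ⧸ M) ((B →₀ (T ⧸ M)) × J) :=
    Submodule.span (T ⧸ M) {w | ∃ l, ∃ hl : π l = 0, w = (D0 l, (⟨t l, by
      rw [← Ideal.Quotient.eq_zero_iff_mem, htπ, hl, map_zero]⟩ : J))}
  -- the key point: the system is consistent
  have key : ∀ j : J, ((0 : B →₀ (T ⧸ M)), j) ∈ W → j = 0 := by
    intro j hj
    refine (Module.forall_dual_apply_eq_zero_iff (T ⧸ M) j).mp fun lam => ?_
    -- the Artinian test ring
    let Q : Ideal T := J.comap t.toRingHom
    let μ : Q →+ T ⧸ M := AddMonoidHom.mk' (fun q => lam ⟨t q.1, q.2⟩) (fun a b => by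
      rw [← map_add]; exact congrArg lam (Subtype.ext (map_add t a.1 b.1)))
    let P : Ideal T :=
      { carrier := {p | ∃ h : p ∈ Q, μ ⟨p, h⟩ = 0}
        zero_mem' := ⟨zero_mem Q, map_zero μ⟩
        add_mem' := fun {a b} ⟨ha, ha'⟩ ⟨hb, hb'⟩ => ⟨add_mem ha hb, by
          rw [show (⟨a + b, add_mem ha hb⟩ : Q) = ⟨a, ha⟩ + ⟨b, hb⟩ from rfl, map_add, ha', hb', add_zero]⟩
        smul_mem' := fun r a ⟨ha, ha'⟩ => ⟨Ideal.mul_mem_left Q r ha, by
          show lam ⟨t (r * a), _⟩ = 0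
          rw [show (⟨t (r * a), _⟩ : J) = Ideal.Quotient.mk M r • (⟨t a, ha⟩ : J) from
            Subtype.ext (map_mul t r a), map_smul]
          rw [show lam ⟨t a, ha⟩ = 0 from ha', smul_zero]⟩ }
    have hμ : ∀ (r q : T) (hq : q ∈ Q), μ ⟨r * q, Ideal.mul_mem_left Q r hq⟩ = Ideal.Quotient.mk M r * μ ⟨q, hq⟩ := by
      intro r q hq
      show lam ⟨t (r * q), _⟩ = _
      rw [show (⟨t (r * q), _⟩ : J) = Ideal.Quotient.mk M r • (⟨t q, hq⟩ : J) from
        Subtype.ext (map_mul t r q), map_smul]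
      rfl
    have hPQ : P ≤ Q := fun p hp => hp.1
    have hQM : Q ≤ M := by
      intro p hp
      have h1 : u (π p) = 0 := by rw [← htπ]; exact Ideal.Quotient.eq_zero_iff_mem.mpr hp
      by_contra hpM
      have h2 : IsUnit (π p) := IsLocalRing.notMem_maximalIdeal.mp hpM
      exact not_isUnit_zero (h1 ▸ h2.map u)
    have hQ : ∀ p, π p = 0 → p ∈ Q := fun p hp => by
      show t p ∈ J
      rw [← Ideal.Quotient.eq_zero_iff_mem, htπ, hp, map_zero]
    let D := T ⧸ P
    let I : Ideal D := Q.map (Ideal.Quotient.mk P)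
    have hPM : P ≤ M := hPQ.trans hQM
    have : Nontrivial D := Ideal.Quotient.nontrivial_iff.mpr fun e => hMmax.ne_top (top_le_iff.mp (e ▸ hPM))
    have hMnil : IsNilpotent (M.map (Ideal.Quotient.mk P)) := by
      obtain ⟨n, hn⟩ := h𝔐
      refine ⟨n, ?_⟩
      rw [← Ideal.map_pow]
      refine Ideal.map_mk_eq_bot_of_le fun p hp => ?_
      have h1 : t p ∈ 𝔐 ^ n := by
        refine Ideal.pow_right_mono (I := M.map t.toRingHom) ?_ n ?_
        · rw [Ideal.map_le_iff_le_comap]; exact ht𝔐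
        · rw [← Ideal.map_pow]; exact Ideal.mem_map_of_mem _ hp
      rw [hn] at h1
      have h2 : t p = 0 := (Submodule.mem_bot C).mp h1
      have hpQ : p ∈ Q := by show t p ∈ J; rw [h2]; exact zero_mem J
      exact ⟨hpQ, (congrArg lam (Subtype.ext h2 : (⟨t p, hpQ⟩ : J) = 0)).trans (map_zero lam)⟩
    have hMDmax : (M.map (Ideal.Quotient.mk P)).IsMaximal :=
      Ideal.IsMaximal.map_of_surjective_of_ker_le Ideal.Quotient.mk_surjective (by rw [Ideal.mk_ker]; exact hPM)
    have hDloc : IsLocalRing D := by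
      refine IsLocalRing.of_unique_max_ideal ⟨M.map (Ideal.Quotient.mk P), hMDmax, fun I' hI' => ?_⟩
      obtain ⟨n, hn⟩ := hMnil
      exact (hMDmax.eq_of_le hI'.ne_top (hI'.isPrime.le_of_pow_le (hn.le.trans bot_le))).symm
    have hmD : maximalIdeal D = M.map (Ideal.Quotient.mk P) := (eq_maximalIdeal hMDmax).symm
    have hfgI : ∀ K : Ideal D, (K ⊓ I).FG := by
      intro K
      rcases eq_or_ne (K ⊓ I) ⊥ with h0 | h0
      · rw [h0]; exact Submodule.fg_bot
      obtain ⟨x, hx, hx0⟩ := Submodule.exists_mem_ne_zero_of_ne_bot h0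
      obtain ⟨q, hq, rfl⟩ := (Ideal.mem_map_iff_of_surjective _ Ideal.Quotient.mk_surjective).mp hx.2
      have hq0 : μ ⟨q, hq⟩ ≠ 0 := fun e => hx0 (Ideal.Quotient.eq_zero_iff_mem.mpr ⟨hq, e⟩)
      refine ⟨{Ideal.Quotient.mk P q}, le_antisymm ?_ fun y hy => ?_⟩
      · rw [Finset.coe_singleton]
        exact (Submodule.span_singleton_le_iff_mem _ _).mpr hx
      · rw [Finset.coe_singleton, Submodule.mem_span_singleton]
        obtain ⟨z, hz, rfl⟩ := (Ideal.mem_map_iff_of_surjective _ Ideal.Quotient.mk_surjective).mp hy.2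
        obtain ⟨r, hr⟩ := Ideal.Quotient.mk_surjective (μ ⟨z, hz⟩ * (μ ⟨q, hq⟩)⁻¹)
        refine ⟨Ideal.Quotient.mk P r, ?_⟩
        rw [smul_eq_mul, ← map_mul, Ideal.Quotient.eq]
        refine ⟨sub_mem (Ideal.mul_mem_left Q r hq) hz, ?_⟩
        rw [show (⟨r * q - z, _⟩ : Q) = ⟨r * q, Ideal.mul_mem_left Q r hq⟩ - ⟨z, hz⟩ from rfl, map_sub, hμ r q hq, hr,
          mul_assoc, inv_mul_cancel₀ hq0, mul_one, sub_self]
    have hDIsurj : Function.Surjective (Ideal.Quotient.mk I : D →+* D ⧸ I) := Ideal.Quotient.mk_surjective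
    have hQker : ∀ a ∈ RingHom.ker π.toRingHom,
        (((Ideal.Quotient.mkₐ A I).comp (Ideal.Quotient.mkₐ A P)) : T →ₐ[A] D ⧸ I) a = 0 := fun a ha =>
      Ideal.Quotient.eq_zero_iff_mem.mpr (Ideal.mem_map_of_mem _ (hQ a ha))
    let uD : B →ₐ[A] D ⧸ I := (Ideal.Quotient.liftₐ _ _ hQker).comp
      (Ideal.quotientKerAlgEquivOfSurjective hπ).symm.toAlgHom
    have huD : ∀ p, uD (π p) = Ideal.Quotient.mk I (Ideal.Quotient.mk P p) := by
      intro p
      have : (Ideal.quotientKerAlgEquivOfSurjective hπ).symm (π p) = Ideal.Quotient.mk _ p := by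
        rw [AlgEquiv.symm_apply_eq]; rfl
      show (Ideal.Quotient.liftₐ _ _ hQker) ((Ideal.quotientKerAlgEquivOfSurjective hπ).symm (π p)) = _
      rw [this]
      rfl
    have huDs : Function.Surjective uD := fun y => by
      obtain ⟨y, rfl⟩ := hDIsurj y
      obtain ⟨p, rfl⟩ := Ideal.Quotient.mk_surjective y
      exact ⟨π p, huD p⟩
    have : IsNoetherianRing (D ⧸ I) := isNoetherianRing_of_surjective B _ uD.toRingHom huDs
    have : IsNoetherianRing D := by
      rw [isNoetherianRing_iff_ideal_fg]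
      intro K
      refine Submodule.fg_of_fg_map_of_fg_inf_ker (Submodule.mkQ I) ?_ ?_
      · have hfg := Submodule.FG.restrictScalars_of_surjective (R := D)
          (IsNoetherian.noetherian (K.map (Ideal.Quotient.mk I))) hDIsurj
        have e : Submodule.map (Submodule.mkQ I) K = Submodule.restrictScalars D (K.map (Ideal.Quotient.mk I)) := by
          apply SetLike.ext
          intro y
          simp only [Submodule.mem_map, Submodule.mkQ_apply, Submodule.restrictScalars_mem,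
            Ideal.mem_map_iff_of_surjective _ hDIsurj]
          rfl
        rw [e]; exact hfg
      · rw [Submodule.ker_mkQ]; exact hfgI K
    have hArt : IsArtinianRing D :=
      (isArtinianRing_iff_isNilpotent_maximalIdeal D).mpr (hmD ▸ hMnil)
    have hunit : ∀ p : T, IsUnit (Ideal.Quotient.mk P p) → p ∉ M := fun p hp hpM =>
      (mem_maximalIdeal _).mp (hmD ▸ Ideal.mem_map_of_mem _ hpM) hp
    have hIle : I ≤ maximalIdeal D := by rw [hmD]; exact Ideal.map_mono hQM
    have : Nontrivial (D ⧸ I) := Ideal.Quotient.nontrivial_iff.mpr fun e =>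
      (maximalIdeal.isMaximal D).ne_top (top_le_iff.mp (e ▸ hIle))
    have : IsLocalRing (D ⧸ I) := IsLocalRing.of_surjective' _ hDIsurj
    have hlocA : IsLocalHom (algebraMap A D) := ⟨fun a ha => by
      by_contra hna
      have h1 : algebraMap A B a ∈ maximalIdeal B := by
        rw [mem_maximalIdeal]
        exact fun h => hna (IsUnit.of_map (algebraMap A B) a h)
      exact hunit (algebraMap A T a) ha (by
        show π (algebraMap A T a) ∈ maximalIdeal B
        rw [AlgHom.commutes]; exact h1)⟩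
    have hlocu : IsLocalHom uD.toRingHom := IsLocalHom.of_surjective (R := B) (S := D ⧸ I) uD.toRingHom huDs
    have hbij : Function.Bijective (ResidueField.map (R := B) (S := D ⧸ I) uD.toRingHom) := by
      refine ⟨RingHom.injective _, fun y => ?_⟩
      obtain ⟨y, rfl⟩ := residue_surjective y
      obtain ⟨b, rfl⟩ := huDs y
      exact ⟨residue B b, rfl⟩
    have hInil : IsNilpotent I := by
      obtain ⟨n, hn⟩ := hMnil
      exact ⟨n, eq_bot_iff.mpr ((Ideal.pow_right_mono (Ideal.map_mono hQM) n).trans hn.le)⟩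
    obtain ⟨f, -, hf⟩ := H D I hInil uD hbij
    -- the derivation measuring `t` against the lift
    have hd : ∀ p, ∃ q : Q, Ideal.Quotient.mk P (q : T) = Ideal.Quotient.mk P p - f (π p) := by
      intro p
      have h1 : Ideal.Quotient.mk P p - f (π p) ∈ I := by
        rw [← Ideal.Quotient.eq, show Ideal.Quotient.mk I (f (π p)) = uD (π p) from AlgHom.congr_fun hf (π p), huD]
      obtain ⟨q, hq, hqe⟩ := (Ideal.mem_map_iff_of_surjective _ Ideal.Quotient.mk_surjective).mp h1
      exact ⟨⟨q, hq⟩, hqe⟩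
    choose d hd using hd
    have hμP : ∀ q q' : Q, Ideal.Quotient.mk P (q : T) = Ideal.Quotient.mk P (q' : T) → μ q = μ q' := by
      intro q q' h
      obtain ⟨h', h''⟩ := Ideal.Quotient.eq.mp h
      rwa [show (⟨(q : T) - q', h'⟩ : Q) = q - q' from rfl, map_sub, sub_eq_zero] at h''
    let e : Derivation A T (T ⧸ M) := Derivation.mk'
      { toFun := fun p => μ (d p)
        map_add' := fun a b => by
          rw [← map_add]
          refine hμP _ _ ?_
          rw [Submodule.coe_add, map_add, hd, hd, hd, map_add, map_add, map_add]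
          abel
        map_smul' := fun a p => by
          rw [RingHom.id_apply, Algebra.smul_def (R := A) a (μ (d p))]
          show μ (d (a • p)) = Ideal.Quotient.mk M (algebraMap A T a) * μ (d p)
          rw [← hμ _ _ (d p).2]
          refine hμP _ _ ?_
          show Ideal.Quotient.mk P (d (a • p) : T) = Ideal.Quotient.mk P (algebraMap A T a * (d p : T))
          rw [map_mul, hd, hd, Algebra.smul_def, map_mul, map_mul, map_mul, AlgHom.commutes, AlgHom.commutes, mul_sub]
          rfl }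
      (fun a b => by
        show μ (d (a * b)) = Ideal.Quotient.mk M a * μ (d b) + Ideal.Quotient.mk M b * μ (d a)
        have h1 : Ideal.Quotient.mk M (b - (d b : T)) = Ideal.Quotient.mk M b := by
          rw [map_sub, Ideal.Quotient.eq_zero_iff_mem.mpr (hQM (d b).2), sub_zero]
        rw [← h1, ← hμ _ _ (d b).2, ← hμ _ _ (d a).2, ← map_add]
        refine hμP _ _ ?_
        show Ideal.Quotient.mk P (d (a * b) : T) = Ideal.Quotient.mk P (a * (d b : T) + (b - d b) * (d a : T))
        rw [map_add, map_mul, map_mul, map_sub, hd, hd, hd, map_mul, map_mul, map_mul]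
        ring)
    let Lc : ((B →₀ (T ⧸ M)) →ₗ[T ⧸ M] (T ⧸ M)) := Finsupp.linearCombination (T ⧸ M) fun b => e (X b)
    have hext : ∀ p, Lc (D0 p) = e p := by
      intro p
      let DD : Derivation A T (T ⧸ M) := (Lc.restrictScalars T).compDer D0
      have : DD = e := MvPolynomial.derivation_ext fun b => by simp [DD, D0, Lc]
      exact congrArg (fun z : Derivation A T (T ⧸ M) => z p) this
    let Φ : ((B →₀ (T ⧸ M)) × J) →ₗ[T ⧸ M] (T ⧸ M) :=
      Lc ∘ₗ LinearMap.fst (T ⧸ M) _ _ - lam ∘ₗ LinearMap.snd (T ⧸ M) _ _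
    have hW : W ≤ LinearMap.ker Φ := by
      rw [Submodule.span_le]
      rintro _ ⟨l, hl, rfl⟩
      show Lc (D0 l) - lam ⟨t l, _⟩ = 0
      rw [hext, sub_eq_zero]
      show μ (d l) = μ ⟨l, hQ l hl⟩
      refine hμP _ _ ?_
      rw [hd, hl, map_zero, sub_zero]
    have := hW hj
    simp only [Φ, LinearMap.mem_ker, LinearMap.sub_apply, LinearMap.comp_apply, LinearMap.fst_apply,
      LinearMap.snd_apply, map_zero, zero_sub, neg_eq_zero] at this
    exact this
  -- solve the system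
  obtain ⟨ψ, hψ⟩ := exists_solution W key
  let δ : T → C := fun p => (ψ (D0 p) : J)
  have hδadd : ∀ p q, δ (p + q) = δ p + δ q := fun p q => by simp [δ]
  have hδmul : ∀ p q, δ (p * q) = t p * δ q + t q * δ p := by
    intro p q
    show ((ψ (D0 (p * q)) : J) : C) = _
    rw [Derivation.leibniz, ← IsScalarTower.algebraMap_smul (T ⧸ M) p, ← IsScalarTower.algebraMap_smul (T ⧸ M) q,
      map_add, map_smul, map_smul]
    rfl
  have hδalg : ∀ a, δ (algebraMap A T a) = 0 := fun a => by simp [δ]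
  have hδ0 : ∀ p q, δ p * δ q = 0 := fun p q => (Submodule.mem_bot C).mp
    (hJ𝔐 ▸ Ideal.mul_mem_mul (ψ (D0 p)).2 (hJ (ψ (D0 q)).2))
  have hδL : ∀ l, π l = 0 → δ l = t l := by
    intro l hl
    have hw : (D0 l, (⟨t l, by rw [← Ideal.Quotient.eq_zero_iff_mem, htπ, hl, map_zero]⟩ : J)) ∈ W :=
      Submodule.subset_span ⟨l, hl, rfl⟩
    exact congrArg (fun z : J => (z : C)) (hψ _ hw)
  let v : T →ₐ[A] C := AlgHom.mk'
    { toFun := fun p => t p - δ p
      map_one' := by rw [map_one, ← (algebraMap A T).map_one, hδalg, sub_zero]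
      map_mul' := fun p q => by
        rw [map_mul, hδmul]
        linear_combination -(hδ0 p q)
      map_zero' := by rw [map_zero, ← (algebraMap A T).map_zero, hδalg, sub_zero]
      map_add' := fun p q => by rw [map_add, hδadd]; ring }
    (fun a p => by
      show t (a • p) - δ (a • p) = a • (t p - δ p)
      rw [Algebra.smul_def, Algebra.smul_def, map_mul, hδmul, hδalg, mul_zero, add_zero, AlgHom.commutes]
      ring)
  have hvker : ∀ a ∈ RingHom.ker π.toRingHom, v a = 0 := fun a ha => by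
    show t a - δ a = 0
    rw [hδL a ha, sub_self]
  refine ⟨(Ideal.Quotient.liftₐ _ v hvker).comp (Ideal.quotientKerAlgEquivOfSurjective hπ).symm.toAlgHom,
    AlgHom.ext fun b => ?_⟩
  obtain ⟨p, rfl⟩ := hπ b
  show Ideal.Quotient.mk J ((Ideal.Quotient.liftₐ _ v hvker) ((Ideal.quotientKerAlgEquivOfSurjective hπ).symm (π p))) = _
  have : (Ideal.quotientKerAlgEquivOfSurjective hπ).symm (π p) = Ideal.Quotient.mk _ p := by
    rw [AlgEquiv.symm_apply_eq]; rfl
  rw [this]
  show Ideal.Quotient.mk J (t p - δ p) = _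
  rw [map_sub, htπ, Ideal.Quotient.eq_zero_iff_mem.mpr (ψ (D0 p)).2, sub_zero]

/-- Artinian lifting implies lifting through every nilpotent ideal. -/
theorem exists_lift_of_liftsArtinian (H : LiftsArtinian A B) (J : Ideal C) (hJ : IsNilpotent J)
    (u : B →ₐ[A] C ⧸ J) (hu : ∃ k : ℕ, ∀ x ∈ maximalIdeal B ^ k, u x = 0) :
    ∃ v : B →ₐ[A] C, (Ideal.Quotient.mkₐ A J).comp v = u := by
  obtain ⟨k, hk⟩ := hu
  obtain ⟨j, hj⟩ := hJ
  let 𝔐 : Ideal C := ((maximalIdeal B).map u.toRingHom).comap (Ideal.Quotient.mk J)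
  have hJle : J ≤ 𝔐 := fun x hx => by
    refine Ideal.mem_comap.mpr ?_
    rw [Ideal.Quotient.eq_zero_iff_mem.mpr hx]; exact zero_mem _
  have h𝔐k : 𝔐 ^ k ≤ J := by
    intro x hx
    rw [← Ideal.Quotient.eq_zero_iff_mem]
    have h1 : Ideal.Quotient.mk J x ∈ (𝔐.map (Ideal.Quotient.mk J)) ^ k := by
      rw [← Ideal.map_pow]; exact Ideal.mem_map_of_mem _ hx
    have h2 : (maximalIdeal B ^ k).map u.toRingHom = ⊥ := by
      rw [eq_bot_iff, Ideal.map_le_iff_le_comap]
      exact fun y hy => hk y hy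
    have h3 : 𝔐.map (Ideal.Quotient.mk J) ≤ (maximalIdeal B).map u.toRingHom := Ideal.map_comap_le
    have := Ideal.pow_right_mono h3 k h1
    rw [← Ideal.map_pow, h2] at this
    exact (Submodule.mem_bot _).mp this
  have h𝔐 : 𝔐 ^ (k * j) = ⊥ := by
    rw [pow_mul, eq_bot_iff]
    exact (Ideal.pow_right_mono h𝔐k j).trans hj.le
  have hu𝔐 : (maximalIdeal B).map u.toRingHom ≤ 𝔐.map (Ideal.Quotient.mk J) :=
    (Ideal.map_comap_of_surjective _ Ideal.Quotient.mk_surjective _).ge
  suffices h : ∀ (n : ℕ), ∃ w : B →ₐ[A] C ⧸ (J ⊓ 𝔐 ^ n),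
      (Ideal.Quotient.factorₐ A (inf_le_left : J ⊓ 𝔐 ^ n ≤ J)).comp w = u by
    obtain ⟨w, hw⟩ := h (k * j)
    have e : J ⊓ 𝔐 ^ (k * j) = ⊥ := by rw [h𝔐, inf_bot_eq]
    let g : (C ⧸ (J ⊓ 𝔐 ^ (k * j))) →ₐ[A] C := Ideal.Quotient.liftₐ _ (AlgHom.id A C) fun x hx => by
      rw [e] at hx; exact (Submodule.mem_bot C).mp hx
    refine ⟨g.comp w, AlgHom.ext fun b => ?_⟩
    obtain ⟨x, hx⟩ := Ideal.Quotient.mk_surjective (w b)
    rw [← AlgHom.congr_fun hw b]
    show Ideal.Quotient.mk J (g (w b)) = Ideal.Quotient.factor (inf_le_left : J ⊓ 𝔐 ^ (k * j) ≤ J) (w b)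
    rw [← hx]
    rfl
  intro n
  induction n with
  | zero =>
    have e : J ⊓ 𝔐 ^ 0 = J := by simp
    refine ⟨(Ideal.Quotient.factorₐ A e.ge).comp u, AlgHom.ext fun b => ?_⟩
    obtain ⟨x, hx⟩ := Ideal.Quotient.mk_surjective (u b)
    show Ideal.Quotient.factor (inf_le_left : J ⊓ 𝔐 ^ 0 ≤ J) (Ideal.Quotient.factor e.ge (u b)) = _
    rw [← hx]
    rfl
  | succ n ih =>
    obtain ⟨w, hw⟩ := ih
    let I₁ := J ⊓ 𝔐 ^ (n + 1)
    let I₀ := J ⊓ 𝔐 ^ n
    have hle : I₁ ≤ I₀ := inf_le_inf_left _ (Ideal.pow_le_pow_right n.le_succ)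
    let 𝔐' := 𝔐.map (Ideal.Quotient.mk I₁)
    let J' := I₀.map (Ideal.Quotient.mk I₁)
    have h1 : IsNilpotent 𝔐' := ⟨k * j, by rw [← Ideal.map_pow, h𝔐, Ideal.map_bot]; rfl⟩
    have h2 : J' ≤ 𝔐' := Ideal.map_mono (inf_le_left.trans hJle)
    have h3 : J' * 𝔐' = ⊥ := by
      rw [← Ideal.map_mul]
      refine Ideal.map_mk_eq_bot_of_le (le_inf (Ideal.mul_le_left.trans inf_le_left) ?_)
      rw [pow_succ]
      exact Ideal.mul_mono_left inf_le_right
    let e : ((C ⧸ I₁) ⧸ J') ≃ₐ[A] C ⧸ I₀ := DoubleQuot.quotQuotEquivQuotOfLEₐ A hle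
    have h4 : (maximalIdeal B).map (e.symm.toAlgHom.comp w).toRingHom ≤ 𝔐'.map (Ideal.Quotient.mk J') := by
      rw [Ideal.map_le_iff_le_comap]
      intro b hb
      obtain ⟨x, hx⟩ := Ideal.Quotient.mk_surjective (w b)
      have hxu : Ideal.Quotient.mk J x = u b := by
        rw [← AlgHom.congr_fun hw b]
        show _ = Ideal.Quotient.factor (inf_le_left : J ⊓ 𝔐 ^ n ≤ J) (w b)
        rw [← hx]
        rfl
      have hx𝔐 : x ∈ 𝔐 := by
        refine Ideal.mem_comap.mpr ?_
        rw [hxu]; exact Ideal.mem_map_of_mem _ hb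
      refine Ideal.mem_comap.mpr ?_
      change e.symm (w b) ∈ _
      have : e.symm (w b) = Ideal.Quotient.mk J' (Ideal.Quotient.mk I₁ x) := by
        rw [AlgEquiv.symm_apply_eq, ← hx]; rfl
      rw [this]
      exact Ideal.mem_map_of_mem _ (Ideal.mem_map_of_mem _ hx𝔐)
    obtain ⟨v, hv⟩ := exists_lift_step H 𝔐' h1 J' h2 h3 (e.symm.toAlgHom.comp w) h4
    refine ⟨v, AlgHom.ext fun b => ?_⟩
    have hb : e (Ideal.Quotient.mk J' (v b)) = w b := by
      rw [← e.apply_symm_apply (w b)]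
      exact congrArg e (AlgHom.congr_fun hv b)
    rw [← AlgHom.congr_fun hw b]
    obtain ⟨x, hx⟩ := Ideal.Quotient.mk_surjective (v b)
    show Ideal.Quotient.factor (inf_le_left : I₁ ≤ J) (v b) = Ideal.Quotient.factor (inf_le_left : J ⊓ 𝔐 ^ n ≤ J) (w b)
    rw [← hb, ← hx]
    rfl

end Step

end Groth.Agent.FSAdic12
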