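import Groth.Agent.FSAdic12.Basic
import Mathlib.RingTheory.TensorProduct.Quotient
import Mathlib.RingTheory.Flat.FaithfullyFlat.Algebra
import Mathlib.LinearAlgebra.TensorProduct.RightExactness
import Mathlib.LinearAlgebra.Dual.Defs

/-!
Formal smoothness for formally projective adic algebras.
-/
set_option autoImplicit false
universe u
open EGA41 TensorProduct

namespace Groth.Agent.FSAdic12

/-- Reduction to square-zero test ideals killed by `𝔞`. -/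
theorem isFormallySmoothAdic_of_step {A B : Type u} [CommRing A] [CommRing B] [Algebra A B]
    (𝔞 : Ideal A) (𝔟 : Ideal B)
    (h : ∀ (C : Type u) [CommRing C] [Algebra A C] (J : Ideal C), J ^ 2 = ⊥ → J * 𝔞.map (algebraMap A C) = ⊥ →
      (∃ k : ℕ, (𝔞 ^ k).map (algebraMap A C) = ⊥) →
      ∀ u : B →ₐ[A] C ⧸ J, (∃ k : ℕ, ∀ x ∈ 𝔟 ^ k, u x = 0) →
        ∃ v : B →ₐ[A] C, (Ideal.Quotient.mkₐ A J).comp v = u) :
    IsFormallySmoothAdic A 𝔞 B 𝔟 := by
  intro C _ _ J hJ hC u hu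
  obtain ⟨j, hj⟩ := hJ
  obtain ⟨a, ha⟩ := hC
  obtain ⟨k, hk⟩ := hu
  obtain ⟨N, hNdef⟩ : ∃ N : Ideal C, N = J ⊔ 𝔞.map (algebraMap A C) := ⟨_, rfl⟩
  have hNJ : J ≤ N := hNdef ▸ le_sup_left
  have hNa : 𝔞.map (algebraMap A C) ≤ N := hNdef ▸ le_sup_right
  have hN : N ^ (j + a) = ⊥ := by
    rw [hNdef]
    refine eq_bot_iff.mpr ((Ideal.sup_pow_add_le_pow_sup_pow (I := J) (J := 𝔞.map (algebraMap A C))).trans ?_)
    rw [← Ideal.map_pow, ha, hj]
    simp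
  obtain ⟨K, hKdef⟩ : ∃ K : ℕ → Ideal C, ∀ i, K i = J * N ^ i := ⟨_, fun i => rfl⟩
  have hK : ∀ i, K (i + 1) ≤ K i := fun i => by
    rw [hKdef, hKdef]; exact Ideal.mul_mono le_rfl (Ideal.pow_le_pow_right i.le_succ)
  have hKJ : ∀ i, K i ≤ J := fun i => by rw [hKdef]; exact Ideal.mul_le_left
  suffices H : ∀ i, ∃ w : B →ₐ[A] C ⧸ K i, (∃ m, ∀ x ∈ 𝔟 ^ m, w x = 0) ∧
      (Ideal.Quotient.factorₐ A (hKJ i)).comp w = u by
    obtain ⟨w, -, hw⟩ := H (j + a)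
    have e : K (j + a) = ⊥ := by rw [hKdef, hN]; simp
    let g : (C ⧸ K (j + a)) →ₐ[A] C := Ideal.Quotient.liftₐ _ (AlgHom.id A C) fun x hx => by
      rw [e] at hx; exact (Submodule.mem_bot C).mp hx
    refine ⟨g.comp w, AlgHom.ext fun b => ?_⟩
    obtain ⟨x, hx⟩ := Ideal.Quotient.mk_surjective (w b)
    rw [← AlgHom.congr_fun hw b]
    show Ideal.Quotient.mk J (g (w b)) = Ideal.Quotient.factor (hKJ _) (w b)
    rw [← hx]
    rfl
  intro i
  induction i with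
  | zero =>
    have e : K 0 = J := by rw [hKdef]; simp
    refine ⟨(Ideal.Quotient.factorₐ A e.ge).comp u, ⟨k, fun x hx => by simp [hk x hx]⟩, AlgHom.ext fun b => ?_⟩
    obtain ⟨x, hx⟩ := Ideal.Quotient.mk_surjective (u b)
    show Ideal.Quotient.factor (hKJ 0) (Ideal.Quotient.factor e.ge (u b)) = _
    rw [← hx]
    rfl
  | succ i ih =>
    obtain ⟨w, ⟨m, hm⟩, hw⟩ := ih
    let J' := (K i).map (Ideal.Quotient.mk (K (i + 1)))
    have h2 : J' ^ 2 = ⊥ := by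
      rw [pow_two, ← Ideal.map_mul]
      refine Ideal.map_mk_eq_bot_of_le ?_
      rw [hKdef, hKdef, pow_succ N i, ← mul_assoc J (N ^ i) N]
      exact Ideal.mul_mono le_rfl (Ideal.mul_le_left.trans hNJ)
    have h3 : J' * 𝔞.map (algebraMap A (C ⧸ K (i + 1))) = ⊥ := by
      rw [IsScalarTower.algebraMap_eq A C (C ⧸ K (i + 1)), ← Ideal.map_map, Ideal.Quotient.algebraMap_eq, ← Ideal.map_mul]
      refine Ideal.map_mk_eq_bot_of_le ?_
      rw [hKdef, hKdef, pow_succ N i, ← mul_assoc J (N ^ i) N]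
      exact Ideal.mul_mono le_rfl hNa
    have h4 : ∃ k, (𝔞 ^ k).map (algebraMap A (C ⧸ K (i + 1))) = ⊥ := ⟨a, by
      rw [IsScalarTower.algebraMap_eq A C (C ⧸ K (i + 1)), ← Ideal.map_map, ha, Ideal.map_bot]⟩
    let e : ((C ⧸ K (i + 1)) ⧸ J') ≃ₐ[A] C ⧸ K i := DoubleQuot.quotQuotEquivQuotOfLEₐ A (hK i)
    obtain ⟨v, hv⟩ := h (C ⧸ K (i + 1)) J' h2 h3 h4 (e.symm.toAlgHom.comp w)
      ⟨m, fun x hx => by simp [hm x hx]⟩
    have hb : ∀ b, e (Ideal.Quotient.mk J' (v b)) = w b := fun b => by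
      rw [← e.apply_symm_apply (w b)]
      exact congrArg e (AlgHom.congr_fun hv b)
    refine ⟨v, continuous_of_lift ⟨2, h2⟩ 𝔟 v m fun x hx => e.injective (by rw [hb, hm x hx, map_zero]),
      AlgHom.ext fun b => ?_⟩
    rw [← AlgHom.congr_fun hw b]
    obtain ⟨x, hx⟩ := Ideal.Quotient.mk_surjective (v b)
    show Ideal.Quotient.factor (hKJ (i + 1)) (v b) = Ideal.Quotient.factor (hKJ i) (w b)
    rw [← hb b, ← hx]
    rfl

theorem exists_retraction {A A' : Type u} [CommRing A] [CommRing A'] [Algebra A A']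
    [Module.FaithfullyFlat A A'] [Module.Projective A A'] : ∃ r : A' →ₗ[A] A, r 1 = 1 := by
  let ev : (A' →ₗ[A] A) →ₗ[A] A := LinearMap.applyₗ (1 : A')
  suffices LinearMap.range ev = ⊤ by
    obtain ⟨r, hr⟩ := this.ge (Submodule.mem_top (x := (1 : A)))
    exact ⟨r, hr⟩
  by_contra hne
  obtain ⟨m, hm, hle⟩ := Ideal.exists_le_maximal (LinearMap.range ev) hne
  obtain ⟨s, hs⟩ := Module.projective_def'.mp ‹Module.Projective A A'›
  have h1 : (1 : A') ∈ m.map (algebraMap A A') := by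
    have h2 := LinearMap.congr_fun hs (1 : A')
    simp only [LinearMap.comp_apply, LinearMap.id_apply, Finsupp.linearCombination_apply] at h2
    have h3 : ((s 1).sum fun i a => a • id i) ∈ m.map (algebraMap A A') := by
      refine sum_mem fun i _ => ?_
      show s 1 i • id i ∈ _
      rw [Algebra.smul_def]
      refine Ideal.mul_mem_right _ _ (Ideal.mem_map_of_mem _ (hle ?_))
      exact ⟨Finsupp.lapply i ∘ₗ s, rfl⟩
    rwa [h2] at h3
  have h2 : (m.map (algebraMap A A')).comap (algebraMap A A') = m := Ideal.comap_map_eq_self_of_faithfullyFlat m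
  rw [(Ideal.eq_top_iff_one _).mpr h1, Ideal.comap_top] at h2
  exact hm.ne_top h2.symm

/-- Turning a linear lift into an algebra lift, through the pulled back extension. -/
theorem exists_lift_of_pullback {A B C : Type u} [CommRing A] [CommRing B] [CommRing C] [Algebra A B] [Algebra A C]
    (𝔞 : Ideal A) (𝔟 : Ideal B)
    (h : IsFormallySmoothAdic (A ⧸ 𝔞) ⊥ (B ⧸ 𝔞.map (algebraMap A B))
      (𝔟.map (Ideal.Quotient.mk (𝔞.map (algebraMap A B)))))
    {J : Ideal C} (u : B →ₐ[A] C ⧸ J) (w : B →ₗ[A] C) (m : ℕ) (hw' : ∀ x, Ideal.Quotient.mk J (w x) = u x)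
    (hJJ : ∀ p ∈ J, ∀ q ∈ J, p * q = 0) (hJA : ∀ p ∈ J, ∀ a ∈ 𝔞, a • p = 0)
    (hIJ : ∀ x ∈ 𝔞.map (algebraMap A B) ⊔ 𝔟 ^ m, ∀ p ∈ J, w x * p = 0)
    (hIf : ∀ x ∈ 𝔞.map (algebraMap A B) ⊔ 𝔟 ^ m, ∀ y, w x * w y = w (x * y))
    (hm : ∀ x ∈ 𝔟 ^ m, w x = 0)
    (P : Type u) [CommRing P] [Algebra A P] (p₁ : P →ₐ[A] C) (p₂ : P →ₐ[A] B)
    (hP : ∀ z, Ideal.Quotient.mk J (p₁ z) = u (p₂ z))
    (hsur : ∀ c x, Ideal.Quotient.mk J c = u x → ∃ z, p₁ z = c ∧ p₂ z = x)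
    (hinj : ∀ z z', p₁ z = p₁ z' → p₂ z = p₂ z' → z = z') :
    ∃ v : B →ₐ[A] C, (Ideal.Quotient.mkₐ A J).comp v = u := by
  obtain ⟨I, hI⟩ : ∃ I : Ideal B, I = 𝔞.map (algebraMap A B) ⊔ 𝔟 ^ m := ⟨_, rfl⟩
  rw [← hI] at hIJ hIf
  have hd : ∀ z, p₁ z - w (p₂ z) ∈ J := fun z => by rw [← Ideal.Quotient.eq, hP, hw']
  let Kd : Ideal P :=
    { carrier := {z | p₂ z ∈ I ∧ p₁ z = w (p₂ z)}
      zero_mem' := ⟨by rw [map_zero]; exact zero_mem I, by rw [map_zero, map_zero, map_zero]⟩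
      add_mem' := fun {z z'} ⟨h1, h2⟩ ⟨h3, h4⟩ => ⟨by rw [map_add]; exact add_mem h1 h3, by
        rw [map_add, map_add, map_add, h2, h4]⟩
      smul_mem' := fun c z ⟨h1, h2⟩ => ⟨by rw [smul_eq_mul, map_mul]; exact Ideal.mul_mem_left I _ h1, by
        rw [smul_eq_mul, map_mul, map_mul, h2, mul_comm (p₂ c), ← hIf _ h1]
        linear_combination (hIJ _ h1 _ (hd c))⟩ }
  have hAE : ∀ a ∈ 𝔞, algebraMap A (P ⧸ Kd) a = 0 := by
    intro a ha
    rw [IsScalarTower.algebraMap_apply A P (P ⧸ Kd), Ideal.Quotient.algebraMap_eq, Ideal.Quotient.eq_zero_iff_mem]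
    have hw1 : w 1 - 1 ∈ J := by rw [← Ideal.Quotient.eq, hw', map_one, map_one]
    refine ⟨by rw [AlgHom.commutes, hI]; exact Submodule.mem_sup_left (Ideal.mem_map_of_mem _ ha), ?_⟩
    rw [AlgHom.commutes, AlgHom.commutes, Algebra.algebraMap_eq_smul_one, Algebra.algebraMap_eq_smul_one, map_smul]
    have := hJA _ hw1 a ha
    rw [smul_sub] at this
    linear_combination -this
  let : Algebra (A ⧸ 𝔞) (P ⧸ Kd) :=
    RingHom.toAlgebra (R := A ⧸ 𝔞) (S := P ⧸ Kd) (Ideal.Quotient.lift 𝔞 (algebraMap A (P ⧸ Kd)) hAE)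
  let Jd : Ideal (P ⧸ Kd) := (I.comap p₂.toRingHom).map (Ideal.Quotient.mk Kd)
  have hJd : IsNilpotent Jd := by
    refine ⟨2, ?_⟩
    show Jd ^ 2 = ⊥
    rw [pow_two, ← Ideal.map_mul]
    refine Ideal.map_mk_eq_bot_of_le (Ideal.mul_le.mpr fun z hz z' hz' => ?_)
    rw [Ideal.mem_comap] at hz hz'
    change p₂ z ∈ I at hz
    change p₂ z' ∈ I at hz'
    refine ⟨by rw [map_mul]; exact Ideal.mul_mem_left I _ hz', ?_⟩
    rw [map_mul, map_mul, ← hIf _ hz]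
    linear_combination hIJ _ hz _ (hd z') + hIJ _ hz' _ (hd z) + hJJ _ (hd z) _ (hd z')
  choose sec hs1 hs2 using fun x => hsur (w x) x (hw' x)
  have hmem : ∀ z : P, p₂ z ∈ I → Ideal.Quotient.mk Kd z ∈ Jd := fun z hz => Ideal.mem_map_of_mem _ hz
  have hmk : ∀ z z' : P, p₂ z - p₂ z' ∈ I →
      Ideal.Quotient.mk Jd (Ideal.Quotient.mk Kd z) = Ideal.Quotient.mk Jd (Ideal.Quotient.mk Kd z') := fun z z' hz => by
    rw [Ideal.Quotient.eq, ← map_sub]
    exact hmem _ (by rw [map_sub]; exact hz)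
  let ψ₀ : B →+* (P ⧸ Kd) ⧸ Jd :=
    { toFun := fun x => Ideal.Quotient.mk Jd (Ideal.Quotient.mk Kd (sec x))
      map_one' := (hmk (sec 1) 1 (by rw [hs2, map_one, sub_self]; exact zero_mem I)).trans (by rw [map_one, map_one])
      map_mul' := fun x y => (hmk (sec (x * y)) (sec x * sec y) (by
        rw [map_mul, hs2, hs2, hs2, sub_self]; exact zero_mem I)).trans (by rw [map_mul, map_mul])
      map_zero' := (hmk (sec 0) 0 (by rw [hs2, map_zero, sub_self]; exact zero_mem I)).trans (by rw [map_zero, map_zero])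
      map_add' := fun x y => (hmk (sec (x + y)) (sec x + sec y) (by
        rw [map_add, hs2, hs2, hs2, sub_self]; exact zero_mem I)).trans (by rw [map_add, map_add]) }
  have hψ₀ : ∀ x ∈ I, ψ₀ x = 0 := fun x hx =>
    Ideal.Quotient.eq_zero_iff_mem.mpr (hmem _ (by rw [hs2]; exact hx))
  let ψ : (B ⧸ 𝔞.map (algebraMap A B)) →ₐ[A ⧸ 𝔞] (P ⧸ Kd) ⧸ Jd :=
    { toRingHom := Ideal.Quotient.lift (𝔞.map (algebraMap A B)) ψ₀ fun x hx => hψ₀ x (hI ▸ Submodule.mem_sup_left hx)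
      commutes' := fun a => by
        obtain ⟨a, rfl⟩ := Ideal.Quotient.mk_surjective a
        show Ideal.Quotient.mk Jd (Ideal.Quotient.mk Kd (sec (algebraMap A B a))) =
          Ideal.Quotient.mk Jd (Ideal.Quotient.mk Kd (algebraMap A P a))
        exact hmk _ _ (by rw [hs2, AlgHom.commutes, sub_self]; exact zero_mem I) }
  obtain ⟨χ, hχ⟩ := h (P ⧸ Kd) Jd hJd ⟨1, by simp⟩ ψ ⟨m, fun x hx => by
    rw [← Ideal.map_pow] at hx
    obtain ⟨x, hx', rfl⟩ := (Ideal.mem_map_iff_of_surjective _ Ideal.Quotient.mk_surjective).mp hx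
    exact hψ₀ x (hI ▸ Submodule.mem_sup_right hx')⟩
  have hrep : ∀ x, ∃ z : P, p₂ z = x ∧ χ (Ideal.Quotient.mk _ x) = Ideal.Quotient.mk Kd z := by
    intro x
    have h1 : χ (Ideal.Quotient.mk _ x) - Ideal.Quotient.mk Kd (sec x) ∈ Jd :=
      Ideal.Quotient.eq.mp (AlgHom.congr_fun hχ (Ideal.Quotient.mk _ x))
    obtain ⟨q, hq, hqe⟩ := (Ideal.mem_map_iff_of_surjective _ Ideal.Quotient.mk_surjective).mp h1
    obtain ⟨z, hz1, hz2⟩ := hsur (p₁ q - w (p₂ q) + w x) x (by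
      rw [map_add, map_sub, hP, hw', hw', sub_self, zero_add])
    refine ⟨z, hz2, ?_⟩
    rw [sub_eq_iff_eq_add.mp hqe.symm, ← map_add, Ideal.Quotient.eq]
    have hq' : p₂ q ∈ I := hq
    refine ⟨?_, ?_⟩
    · rw [map_sub, map_add, hs2, hz2, add_sub_cancel_right]; exact hq'
    · rw [map_sub, map_sub, map_add, map_add, hs1, hs2, hz1, hz2, add_sub_cancel_right]; ring
  choose Z hZ2 hZχ using hrep
  have huniq : ∀ x z, p₂ z = x → χ (Ideal.Quotient.mk _ x) = Ideal.Quotient.mk Kd z → p₁ z = p₁ (Z x) := by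
    intro x z hz he
    rw [hZχ, Ideal.Quotient.eq] at he
    have h2 : p₁ (Z x - z) = w (p₂ (Z x - z)) := he.2
    rw [map_sub, map_sub, hZ2, hz, sub_self, map_zero, sub_eq_zero] at h2
    exact h2.symm
  let vh : B →ₐ[A] C :=
    { toFun := fun x => p₁ (Z x)
      map_one' := (huniq 1 1 (map_one p₂) (by rw [map_one, map_one, map_one])).symm.trans (map_one p₁)
      map_mul' := fun x y => (huniq (x * y) (Z x * Z y) (by rw [map_mul, hZ2, hZ2])
        (by rw [map_mul, map_mul, map_mul, hZχ, hZχ])).symm.trans (map_mul p₁ _ _)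
      map_zero' := (huniq 0 0 (map_zero p₂) (by rw [map_zero, map_zero, map_zero])).symm.trans (map_zero p₁)
      map_add' := fun x y => (huniq (x + y) (Z x + Z y) (by rw [map_add, hZ2, hZ2])
        (by rw [map_add, map_add, map_add, hZχ, hZχ])).symm.trans (map_add p₁ _ _)
      commutes' := fun a => (huniq _ (algebraMap A P a) (p₂.commutes a)
        (χ.commutes (Ideal.Quotient.mk 𝔞 a))).symm.trans (p₁.commutes a) }
  exact ⟨vh, AlgHom.ext fun x => (hP (Z x)).trans (congrArg u (hZ2 x))⟩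

end Groth.Agent.FSAdic12

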