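import Groth.Agent.FSAdic12.LeftInv
import Mathlib.RingTheory.Smooth.Basic
import Mathlib.RingTheory.Smooth.Kaehler
import Mathlib.RingTheory.Extension.Cotangent.Basic
import Mathlib.Algebra.TrivSqZeroExt.Basic
import Mathlib.RingTheory.LocalRing.ResidueField.Ideal

/-!
Formal smoothness of a localization of a quotient of a formally smooth algebra.
-/

set_option autoImplicit false

universe u

open TensorProduct KaehlerDifferential

namespace Groth.Agent.FSAdic12

variable {A B C : Type u} [CommRing A] [CommRing B] [CommRing C] [Algebra A B] [Algebra B C]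
  [Algebra A C] [IsScalarTower A B C]

theorem formallySmooth_of_smul_id [Algebra.FormallySmooth A B] (hsurj : Function.Surjective (algebraMap B C))
    (g : B) (w : C ⊗[B] Ω[B⁄A] →ₗ[B] (RingHom.ker (algebraMap B C)).Cotangent)
    (hw : ∀ m, w (kerCotangentToTensor A B C m) = g • m)
    (S : Submonoid C) (hg : algebraMap B C g ∈ S)
    (L : Type u) [CommRing L] [Algebra C L] [IsLocalization S L] [Algebra A L] [IsScalarTower A C L] :
    Algebra.FormallySmooth A L := by
  refine Algebra.FormallySmooth.of_comp_surjective fun E _ _ J hJ ψ => ?_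
  let ιB : B →ₐ[A] L := (IsScalarTower.toAlgHom A C L).comp (IsScalarTower.toAlgHom A B C)
  let t : B →ₐ[A] E := Algebra.FormallySmooth.lift J ⟨2, hJ⟩ (ψ.comp ιB)
  have ht : ∀ b, Ideal.Quotient.mk J (t b) = ψ (ιB b) :=
    fun b => Algebra.FormallySmooth.mk_lift J ⟨2, hJ⟩ _ b
  have hJJ : ∀ p ∈ J, ∀ q ∈ J, p * q = 0 := fun p hp q hq => (Submodule.mem_bot E).mp (by
    rw [← hJ, pow_two]; exact Ideal.mul_mem_mul hp hq)
  let K := RingHom.ker (algebraMap B C)
  have hKJ : ∀ x ∈ K, t x ∈ J := fun x hx => by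
    rw [← Ideal.Quotient.eq_zero_iff_mem, ht]
    show ψ (algebraMap C L (algebraMap B C x)) = 0
    rw [RingHom.mem_ker.mp hx, map_zero, map_zero]
  have hu : IsUnit (t g) := by
    refine (IsNilpotent.isUnit_quotient_mk_iff (I := J) ⟨2, hJ⟩).mp ?_
    rw [ht]
    exact (IsLocalization.map_units L (⟨algebraMap B C g, hg⟩ : S)).map ψ
  obtain ⟨r, hr⟩ := hu.exists_left_inv
  let : Module B E := Module.compHom E t.toRingHom
  have : IsScalarTower A B E := ⟨fun a b e => by
    show t (a • b) * e = a • (t b * e)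
    rw [map_smul, smul_mul_assoc]⟩
  have hsm : ∀ (b : B) (e : E), b • e = t b * e := fun _ _ => rfl
  let φ₀ : K →ₗ[B] E :=
    { toFun := fun x => t x.1
      map_add' := fun x y => map_add t _ _
      map_smul' := fun b x => map_mul t b x.1 }
  let φ : K.Cotangent →ₗ[B] E := Submodule.liftQ _ φ₀ (by
    rw [Submodule.smul_le]
    rintro x hx y -
    show t (x * y.1) = 0
    rw [map_mul, hJJ _ (hKJ x hx) _ (hKJ y.1 y.2)])
  have hφJ : ∀ m, φ m ∈ J := by
    intro m
    obtain ⟨m, rfl⟩ := K.toCotangent_surjective m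
    exact hKJ m.1 m.2
  let rφ : K.Cotangent →ₗ[B] E :=
    { toFun := fun m => r * φ m
      map_add' := fun m n => by rw [map_add, mul_add]
      map_smul' := fun b m => by rw [map_smul, hsm, hsm, RingHom.id_apply]; ring }
  let Δ : Derivation A B E := (rφ ∘ₗ w ∘ₗ TensorProduct.mk B C Ω[B⁄A] 1).compDer (D A B)
  have hΔJ : ∀ b, Δ b ∈ J := fun b => Ideal.mul_mem_left _ _ (hφJ _)
  have hΔK : ∀ x ∈ K, Δ x = t x := by
    intro x hx
    show r * φ (w ((1 : C) ⊗ₜ[B] D A B x)) = t x
    have h1 := hw (K.toCotangent ⟨x, hx⟩)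
    rw [kerCotangentToTensor_toCotangent] at h1
    exact (congrArg (fun z => r * φ z) h1).trans (by
      show r * φ (g • K.toCotangent ⟨x, hx⟩) = t x
      rw [map_smul, hsm, ← mul_assoc, hr, one_mul]
      rfl)
  let v₀ : B →ₐ[A] E := AlgHom.ofLinearMap (t.toLinearMap - Δ.toLinearMap)
    (by show t 1 - Δ 1 = 1; rw [map_one, Derivation.map_one_eq_zero, sub_zero])
    (fun a b => by
      show t (a * b) - Δ (a * b) = (t a - Δ a) * (t b - Δ b)
      rw [map_mul, Derivation.leibniz, hsm, hsm]
      linear_combination (-(hJJ _ (hΔJ a) _ (hΔJ b))))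
  have hv₀ : ∀ x ∈ RingHom.ker (IsScalarTower.toAlgHom A B C).toRingHom, v₀ x = 0 := fun x hx => by
    show t x - Δ x = 0
    rw [hΔK x hx, sub_self]
  let v₁ : C →ₐ[A] E := (Ideal.Quotient.liftₐ _ v₀ hv₀).comp
    (Ideal.quotientKerAlgEquivOfSurjective (f := IsScalarTower.toAlgHom A B C) hsurj).symm.toAlgHom
  have hv₁ : ∀ b, v₁ (algebraMap B C b) = t b - Δ b := by
    intro b
    show Ideal.Quotient.liftₐ _ v₀ hv₀
      ((Ideal.quotientKerAlgEquivOfSurjective (f := IsScalarTower.toAlgHom A B C) hsurj).symm (algebraMap B C b)) = _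
    have : (Ideal.quotientKerAlgEquivOfSurjective (f := IsScalarTower.toAlgHom A B C) hsurj).symm
        (algebraMap B C b) = Ideal.Quotient.mk _ b := by
      rw [AlgEquiv.symm_apply_eq]; rfl
    rw [this]
    rfl
  have hv₁m : ∀ c, Ideal.Quotient.mk J (v₁ c) = ψ (algebraMap C L c) := by
    intro c
    obtain ⟨b, rfl⟩ := hsurj c
    rw [hv₁, map_sub, ht, Ideal.Quotient.eq_zero_iff_mem.mpr (hΔJ b), sub_zero]
    rfl
  have hun : ∀ y : S, IsUnit (v₁ y) := fun y => by
    refine (IsNilpotent.isUnit_quotient_mk_iff (I := J) ⟨2, hJ⟩).mp ?_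
    rw [hv₁m]
    exact (IsLocalization.map_units L y).map ψ
  refine ⟨IsLocalization.liftAlgHom (M := S) (S := L) (f := v₁) hun, ?_⟩
  apply IsLocalization.algHom_ext S
  ext c
  show Ideal.Quotient.mk J (IsLocalization.liftAlgHom hun (algebraMap C L c)) = ψ (algebraMap C L c)
  rw [IsLocalization.liftAlgHom_apply, IsLocalization.lift_eq]
  exact hv₁m c

theorem exists_sqZero_extension
    (V : Type u) [AddCommGroup V] [Module B V] [Module C V] [IsScalarTower B C V]
    (μ : (RingHom.ker (algebraMap B C)).Cotangent →ₗ[B] V) :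
    ∃ (R : Type u) (_ : CommRing R) (_ : Algebra A R) (π : R →ₐ[A] C) (ι : V →+ R) (j : B →ₐ[A] R),
      (∀ b, π (j b) = algebraMap B C b) ∧ Function.Injective ι ∧
      (∀ z, π z = 0 → ∃ v, z = ι v) ∧ (∀ v, π (ι v) = 0) ∧ (∀ z v, z * ι v = ι (π z • v)) ∧
      ∀ (x : B) (hx : x ∈ RingHom.ker (algebraMap B C)),
        j x = ι (μ ((RingHom.ker (algebraMap B C)).toCotangent ⟨x, hx⟩)) := by
  let K := RingHom.ker (algebraMap B C)
  let : Module A V := Module.compHom V (algebraMap A B)
  have : IsScalarTower A B V := IsScalarTower.of_algebraMap_smul fun _ _ => rfl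
  let : Module Bᵐᵒᵖ V := Module.compHom V ((RingHom.id B).fromOpposite fun _ _ => Commute.all _ _)
  have : IsCentralScalar B V := ⟨fun _ _ => rfl⟩
  have hKV : ∀ x ∈ K, ∀ v : V, x • v = 0 := fun x hx v => by
    rw [← IsScalarTower.algebraMap_smul C x v, RingHom.mem_ker.mp hx, zero_smul]
  let N : Ideal (TrivSqZeroExt B V) :=
    { carrier := {z | ∃ h : z.fst ∈ K, z.snd = - μ (K.toCotangent ⟨z.fst, h⟩)}
      zero_mem' := ⟨zero_mem K, by
        show (0 : V) = -μ (K.toCotangent (0 : K))
        rw [map_zero, map_zero, neg_zero]⟩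
      add_mem' := fun {y z} ⟨hy, hy'⟩ ⟨hz, hz'⟩ => ⟨add_mem hy hz, by
        rw [TrivSqZeroExt.snd_add, hy', hz', ← neg_add, ← map_add, ← map_add]; rfl⟩
      smul_mem' := fun c z ⟨hz, hz'⟩ => ⟨Ideal.mul_mem_left K _ hz, by
        refine (TrivSqZeroExt.snd_mul c z).trans ?_
        rw [hz', op_smul_eq_smul, hKV _ hz, add_zero, smul_neg, ← map_smul, ← map_smul]
        rfl⟩ }
  let π : TrivSqZeroExt B V →ₐ[A] C := (IsScalarTower.toAlgHom A B C).comp (TrivSqZeroExt.fstHom A B V)
  have hπ : ∀ z ∈ N, π z = 0 := fun z hz => hz.1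
  refine ⟨TrivSqZeroExt B V ⧸ N, inferInstance, inferInstance, Ideal.Quotient.liftₐ N π hπ,
    (Ideal.Quotient.mk N).toAddMonoidHom.comp (TrivSqZeroExt.inrHom B V).toAddMonoidHom,
    (Ideal.Quotient.mkₐ A N).comp (TrivSqZeroExt.inlAlgHom A B V), fun b => rfl, ?_, ?_, ?_, ?_, ?_⟩
  · refine (injective_iff_map_eq_zero _).mpr fun v hv => ?_
    obtain ⟨h, h'⟩ := Ideal.Quotient.eq_zero_iff_mem.mp hv
    change v = -μ (K.toCotangent (0 : K)) at h'
    rw [h', map_zero, map_zero, neg_zero]
  · intro z hz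
    obtain ⟨z, rfl⟩ := Ideal.Quotient.mk_surjective z
    have hzK : z.fst ∈ K := hz
    refine ⟨z.snd + μ (K.toCotangent ⟨z.fst, hzK⟩), ?_⟩
    refine Ideal.Quotient.eq.mpr ⟨by simpa using hzK, ?_⟩
    rw [TrivSqZeroExt.snd_sub]
    show z.snd - (z.snd + μ (K.toCotangent ⟨z.fst, hzK⟩)) = _
    rw [sub_add_cancel_left]
    exact congrArg (fun t => -μ (K.toCotangent t)) (Subtype.ext (sub_zero z.fst).symm)
  · exact fun v => map_zero (algebraMap B C)
  · intro z v
    obtain ⟨z, rfl⟩ := Ideal.Quotient.mk_surjective z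
    show Ideal.Quotient.mk N z * Ideal.Quotient.mk N (TrivSqZeroExt.inr v) =
      Ideal.Quotient.mk N (TrivSqZeroExt.inr (algebraMap B C z.fst • v))
    rw [IsScalarTower.algebraMap_smul C z.fst v, ← map_mul]
    congr 1
    ext <;> simp
  · intro x hx
    refine Ideal.Quotient.eq.mpr ⟨by simpa [K] using hx, ?_⟩
    rw [TrivSqZeroExt.snd_sub]
    show (0 : V) - μ (K.toCotangent ⟨x, hx⟩) = _
    rw [zero_sub]
    exact congrArg (fun t => -μ (K.toCotangent t)) (Subtype.ext (sub_zero x).symm)

theorem exists_derivation_of_extension (hsurj : Function.Surjective (algebraMap B C))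
    (S : Submonoid C) (L : Type u) [CommRing L] [Algebra C L] [IsLocalization S L] [Algebra A L]
    [IsScalarTower A C L] [Algebra.FormallySmooth A L]
    (V : Type u) [AddCommGroup V] [Module A V] [Module B V] [IsScalarTower A B V] [Module C V]
    [IsScalarTower B C V] (hV : ∀ s ∈ S, Function.Bijective fun v : V => s • v)
    (R : Type u) [CommRing R] [Algebra A R] (π : R →ₐ[A] C) (ι : V →+ R) (j : B →ₐ[A] R)
    (hj : ∀ b, π (j b) = algebraMap B C b) (hι : Function.Injective ι)
    (hker : ∀ z, π z = 0 → ∃ v, z = ι v) (hπι : ∀ v, π (ι v) = 0)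
    (hmul : ∀ z v, z * ι v = ι (π z • v)) :
    ∃ d : Derivation A B V, ∀ x, algebraMap B C x = 0 → j x = ι (d x) := by
  classical
  let S' : Submonoid R := S.comap π
  have hS' : ∀ y : S', IsUnit (((IsScalarTower.toAlgHom A C L).comp π) y) := fun y =>
    IsLocalization.map_units L (⟨π y, y.2⟩ : S)
  let πE : Localization S' →ₐ[A] L :=
    IsLocalization.liftAlgHom (M := S') (S := Localization S') (f := (IsScalarTower.toAlgHom A C L).comp π) hS'
  have hπE : ∀ z, πE (algebraMap _ _ z) = algebraMap C L (π z) := fun z => by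
    simp only [πE, IsLocalization.liftAlgHom_apply, IsLocalization.lift_eq]
    rfl
  let ιV : V →+ Localization S' := (algebraMap R (Localization S')).toAddMonoidHom.comp ι
  have hιV : Function.Injective ιV := (injective_iff_map_eq_zero _).mpr fun v hv => by
    obtain ⟨s, hs⟩ := (IsLocalization.map_eq_zero_iff S' (Localization S') (ι v)).mp hv
    rw [hmul] at hs
    exact (hV _ s.2).1 (((injective_iff_map_eq_zero _).mp hι _ hs).trans (smul_zero _).symm)
  have hkerE : ∀ x, πE x = 0 → ∃ v, x = ιV v := by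
    intro x hx
    obtain ⟨⟨z, s⟩, hzs⟩ := IsLocalization.surj S' x
    have hz : algebraMap C L (π z) = 0 := by
      rw [← hπE, ← hzs, map_mul, hx, zero_mul]
    obtain ⟨⟨c, hc⟩, hcz⟩ := (IsLocalization.map_eq_zero_iff S L _).mp hz
    obtain ⟨b, rfl⟩ := hsurj c
    let s' : S' := ⟨j b, by show π (j b) ∈ S; rw [hj]; exact hc⟩
    obtain ⟨v, hv⟩ := hker (s' * z) (by rw [map_mul, hj]; exact hcz)
    obtain ⟨v', hv'⟩ := (hV _ (s' * s).2).2 v
    refine ⟨v', (IsLocalization.map_units (Localization S') (s' * s)).mul_left_cancel ?_⟩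
    have h1 : algebraMap R (Localization S') ((s' * s : S') : R) * ιV v' = algebraMap _ _ (ι v) := by
      show algebraMap _ (Localization S') _ * algebraMap _ _ (ι v') = _
      rw [← map_mul, hmul]
      exact congrArg _ (congrArg ι hv')
    rw [h1, ← hv, map_mul, Submonoid.coe_mul, map_mul, ← hzs]
    ring
  have hι2 : ∀ v v', ιV v * ιV v' = 0 := fun v v' => by
    show algebraMap _ (Localization S') (ι v) * algebraMap _ _ (ι v') = 0
    rw [← map_mul, hmul, hπι, zero_smul, map_zero, map_zero]
  have hI : RingHom.ker πE.toRingHom ^ 2 = ⊥ := by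
    rw [sq, eq_bot_iff, Ideal.mul_le]
    intro x hx y hy
    obtain ⟨v, rfl⟩ := hkerE x hx
    obtain ⟨v', rfl⟩ := hkerE y hy
    exact (Submodule.mem_bot _).mpr (hι2 v v')
  have hπEs : Function.Surjective πE := fun y => by
    obtain ⟨⟨c, s⟩, hcs⟩ := IsLocalization.surj S y
    obtain ⟨b, rfl⟩ := hsurj c
    obtain ⟨s₀, hs₀⟩ := hsurj s.1
    let s' : S' := ⟨j s₀, by show π (j s₀) ∈ S; rw [hj, hs₀]; exact s.2⟩
    refine ⟨IsLocalization.mk' (Localization S') (j b) s', ?_⟩
    apply (IsLocalization.map_units L s).mul_right_cancel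
    rw [hcs]
    have h1 := congrArg πE (IsLocalization.mk'_spec (Localization S') (j b) s')
    rw [map_mul, hπE, hπE, hj, hj, hs₀] at h1
    exact h1
  let σ : L →ₐ[A] Localization S' :=
    Algebra.FormallySmooth.liftOfSurjective (AlgHom.id A L) πE hπEs ⟨2, hI⟩
  have hσ : ∀ y, πE (σ y) = y := fun y =>
    Algebra.FormallySmooth.liftOfSurjective_apply (AlgHom.id A L) πE hπEs ⟨2, hI⟩ y
  let ιB : B →ₐ[A] Localization S' := (IsScalarTower.toAlgHom A R (Localization S')).comp j
  let σB : B →ₐ[A] Localization S' :=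
    σ.comp ((IsScalarTower.toAlgHom A C L).comp (IsScalarTower.toAlgHom A B C))
  have hιB : ∀ b, πE (ιB b) = algebraMap C L (algebraMap B C b) := fun b =>
    (hπE _).trans (congrArg _ (hj b))
  have hd : ∀ b, ∃ v, ιV v = ιB b - σB b := fun b => by
    obtain ⟨v, hv⟩ := hkerE (ιB b - σB b) (by
      rw [map_sub, hιB]
      exact sub_eq_zero.mpr (hσ _).symm)
    exact ⟨v, hv.symm⟩
  choose d hd using hd
  have hsmul : ∀ (b : B) (v : V), ιV (b • v) = ιB b * ιV v := fun b v => by
    show algebraMap R (Localization S') (ι (b • v)) = algebraMap R (Localization S') (j b) * algebraMap R (Localization S') (ι v)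
    rw [← map_mul, hmul, hj, IsScalarTower.algebraMap_smul]
  refine ⟨Derivation.mk'
    { toFun := d
      map_add' := fun a b => hιV (by rw [map_add, hd, hd, hd, map_add, map_add]; ring)
      map_smul' := fun a b => hιV (by
        rw [RingHom.id_apply, ← IsScalarTower.algebraMap_smul B a (d b), hsmul, hd, hd, map_smul, map_smul,
          AlgHom.commutes, Algebra.smul_def, Algebra.smul_def]
        ring) }
    (fun a b => hιV (by
      show ιV (d (a * b)) = ιV (a • d b + b • d a)
      rw [map_add, hsmul, hsmul, hd, hd, hd, map_mul, map_mul]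
      have h0 : (ιB a - σB a) * (ιB b - σB b) = 0 := by rw [← hd, ← hd]; exact hι2 _ _
      linear_combination (-h0))), fun x hx => ?_⟩
  obtain ⟨v, hv⟩ := hker (j x) ((hj x).trans hx)
  rw [hv]
  refine congrArg ι (hιV ?_)
  show algebraMap R (Localization S') (ι v) = ιV (d x)
  rw [hd, ← hv, show σB x = σ (algebraMap C L (algebraMap B C x)) from rfl, hx, map_zero, map_zero, sub_zero]
  rfl

theorem exists_lift_of_formallySmooth (hsurj : Function.Surjective (algebraMap B C))
    (S : Submonoid C) (L : Type u) [CommRing L] [Algebra C L] [IsLocalization S L] [Algebra A L]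
    [IsScalarTower A C L] [Algebra.FormallySmooth A L]
    (V : Type u) [AddCommGroup V] [Module B V] [Module C V] [IsScalarTower B C V]
    (hV : ∀ s ∈ S, Function.Bijective fun v : V => s • v)
    (μ : (RingHom.ker (algebraMap B C)).Cotangent →ₗ[B] V) :
    ∃ w : C ⊗[B] Ω[B⁄A] →ₗ[B] V, ∀ m, w (kerCotangentToTensor A B C m) = μ m := by
  let : Module A V := Module.compHom V (algebraMap A B)
  have : IsScalarTower A B V := IsScalarTower.of_algebraMap_smul fun _ _ => rfl
  obtain ⟨R, _, _, π, ι, j, hj, hι, hker, hπι, hmul, hμ⟩ := exists_sqZero_extension (A := A) V μ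
  obtain ⟨Dd, hDd⟩ := exists_derivation_of_extension hsurj S L V hV R π ι j hj hι hker hπι hmul
  refine ⟨(Dd.liftKaehlerDifferential.liftBaseChange C).restrictScalars B, fun m => ?_⟩
  obtain ⟨⟨x, hx⟩, rfl⟩ := (RingHom.ker (algebraMap B C)).toCotangent_surjective m
  rw [kerCotangentToTensor_toCotangent]
  simp only [LinearMap.restrictScalars_apply, LinearMap.liftBaseChange_tmul, one_smul,
    Derivation.liftKaehlerDifferential_comp_D]
  exact hι ((hDd x hx).symm.trans (hμ x hx))

theorem injective_of_formallySmooth (hsurj : Function.Surjective (algebraMap B C))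
    (p : Ideal C) [p.IsPrime] (S : Submonoid C) (hS : S ≤ p.primeCompl)
    (L : Type u) [CommRing L] [Algebra C L] [IsLocalization S L] [Algebra A L]
    [IsScalarTower A C L] [Algebra.FormallySmooth A L] :
    Function.Injective ((kerCotangentToTensor A B C).lTensor p.ResidueField) := by
  set M := (RingHom.ker (algebraMap B C)).Cotangent
  set κ := p.ResidueField
  have hV : ∀ s ∈ S, Function.Bijective fun v : κ ⊗[B] M => s • v := by
    intro s hs
    have hne : algebraMap C κ s ≠ 0 := fun h0 => hS hs (Ideal.algebraMap_residueField_eq_zero.mp h0)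
    have : (fun v : κ ⊗[B] M => s • v) = fun v => algebraMap C κ s • v :=
      funext fun v => (IsScalarTower.algebraMap_smul κ s v).symm
    rw [this]
    exact ⟨smul_right_injective _ hne, fun v => ⟨(algebraMap C κ s)⁻¹ • v, smul_inv_smul₀ hne v⟩⟩
  obtain ⟨w, hw⟩ := exists_lift_of_formallySmooth (A := A) hsurj S L (κ ⊗[B] M) hV (TensorProduct.mk B κ M 1)
  let G := w.liftBaseChange κ
  refine Function.Injective.of_comp (f := G) (Function.LeftInverse.injective (g := id) fun z => ?_)
  show G ((kerCotangentToTensor A B C).lTensor κ z) = z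
  induction z with
  | zero => simp
  | add x y hx hy => rw [map_add, map_add, hx, hy]
  | tmul c m =>
    rw [LinearMap.lTensor_tmul]
    show w.liftBaseChange κ _ = _
    rw [LinearMap.liftBaseChange_tmul, hw, TensorProduct.mk_apply, TensorProduct.smul_tmul', smul_eq_mul, mul_one]

theorem exists_smul_id_of_injective_residueField [Algebra.FormallySmooth A B]
    (hsurj : Function.Surjective (algebraMap B C))
    [Module.Finite B (RingHom.ker (algebraMap B C)).Cotangent] (p : Ideal C) [p.IsPrime]
    (h : Function.Injective ((kerCotangentToTensor A B C).lTensor p.ResidueField)) :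
    ∃ g : B, algebraMap B C g ∉ p ∧
      ∃ w : C ⊗[B] Ω[B⁄A] →ₗ[B] (RingHom.ker (algebraMap B C)).Cotangent,
        ∀ m, w (kerCotangentToTensor A B C m) = g • m := by
  let P : Algebra.Extension A C := ⟨B, _, Function.surjInv_eq hsurj⟩
  let e : P.ker.Cotangent ≃ₗ[P.Ring] P.Cotangent :=
    { __ := AddEquiv.refl _, map_smul' r m := by ext1; simp; rfl }
  have : Algebra.FormallySmooth A P.Ring := ‹_›
  have : Module.Finite P.Ring P.ker.Cotangent := ‹Module.Finite B (RingHom.ker (algebraMap B C)).Cotangent›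
  have : Module.Finite P.Ring P.Cotangent := Module.Finite.equiv e
  have : Module.Finite C P.Cotangent := Module.Finite.of_restrictScalars_finite P.Ring _ _
  let κ := p.ResidueField
  have : TensorProduct.CompatibleSMul P.Ring C κ P.Cotangent := ⟨fun c m n => by
    obtain ⟨b, rfl⟩ := P.algebraMap_surjective c
    rw [algebraMap_smul, algebraMap_smul, TensorProduct.smul_tmul]⟩
  have hinj : Function.Injective (P.cotangentComplex.lTensor κ) := by
    have h' : Function.Injective (((P.cotangentComplex).restrictScalars P.Ring).lTensor κ) := by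
      have he : (P.cotangentComplex).restrictScalars P.Ring ∘ₗ e.toLinearMap = kerCotangentToTensor A P.Ring C :=
        LinearMap.ext fun m => by
          obtain ⟨m, rfl⟩ := P.ker.toCotangent_surjective m
          rfl
      have h2 : Function.Injective ((P.cotangentComplex.restrictScalars P.Ring ∘ₗ e.toLinearMap).lTensor κ) := by
        rw [he]; exact h
      rw [LinearMap.lTensor_comp] at h2
      exact Function.Injective.of_comp_right h2 (LinearMap.lTensor_surjective κ e.surjective)
    intro a b hab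
    let e₁ := TensorProduct.equivOfCompatibleSMul P.Ring C P.Ring κ P.Cotangent
    obtain ⟨a, rfl⟩ := e₁.symm.surjective a
    obtain ⟨b, rfl⟩ := e₁.symm.surjective b
    have : TensorProduct.CompatibleSMul P.Ring C κ P.CotangentSpace := ⟨fun c m n => by
      obtain ⟨b, rfl⟩ := P.algebraMap_surjective c
      rw [algebraMap_smul, algebraMap_smul, TensorProduct.smul_tmul]⟩
    let e₂ := (TensorProduct.equivOfCompatibleSMul P.Ring C P.Ring κ P.CotangentSpace).symm
    have hcomm : ∀ z, P.cotangentComplex.lTensor κ (e₁.symm z) =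
        e₂ ((P.cotangentComplex.restrictScalars P.Ring).lTensor κ z) := fun z => by
      induction z with
      | zero => simp
      | add x y hx hy => simp only [map_add, hx, hy]
      | tmul c m => rfl
    rw [hcomm, hcomm] at hab
    rw [h' (e₂.injective hab)]
  obtain ⟨f, hf, w, hw⟩ := exists_smul_id_of_injective P.cotangentComplex p hinj
  obtain ⟨g, rfl⟩ := hsurj f
  refine ⟨g, hf, e.symm.toLinearMap ∘ₗ w.restrictScalars P.Ring, fun m => ?_⟩
  obtain ⟨m, rfl⟩ := P.ker.toCotangent_surjective m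
  have h1 := LinearMap.congr_fun hw (e (P.ker.toCotangent m))
  apply e.injective
  show e (e.symm (w (P.cotangentComplex (e (P.ker.toCotangent m))))) = e (g • P.ker.toCotangent m)
  rw [e.apply_symm_apply, map_smul]
  exact h1.trans ((LinearMap.smul_apply _ _ _).trans (algebraMap_smul C g _))

end Groth.Agent.FSAdic12
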